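import Cfsg.Agent.FGS4.ConwayOut.Lists

/-!
# A lower bound for an orbit from a spanning tree of rotation classes
-/

set_option autoImplicit false
set_option maxRecDepth 20000

namespace Cfsg.Agent.FGS4.ConwayOut

open Cfsg Cfsg.Agent.Golay
open scoped Pointwise

/-- Unpack a vector with small coordinates. -/
def dec (n : ℕ) : List ℤ := (List.range 24).map fun i => ((n / 32 ^ i % 32 : ℕ) : ℤ) - 16

/-- Pack a vector with small coordinates. -/
def enc (l : List ℤ) : ℕ := l.foldr (fun a acc => (a + 16).toNat + 32 * acc) 0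

/-- An entry: code, parent, the two rotations and the depth. -/
abbrev Entry : Type := ℕ × ℕ × ℕ × ℕ × ℕ

/-- The check of one entry. -/
def entryOK (A : List (List ℤ)) (R : List Entry) (root : List ℤ) (e : Entry) : Bool :=
  (if e.2.2.2.2 = 0 then dec e.1 == root else
    let q := R.getD e.2.1 (0, 0, 0, 0, 0)
    decide (e.2.1 < R.length) && decide (q.2.2.2.2 < e.2.2.2.2) && decide (e.2.2.1 < 23) &&
      decide (e.2.2.2.1 < 23) && rotList e.2.2.1 (matList A (rotList e.2.2.2.1 (dec q.1))) == dec e.1) &&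
    enc (dec e.1) == e.1 && (List.range 22).all fun j => decide (e.1 < enc (rotList (j + 1) (dec e.1)))

/-- The check of the tree. -/
def orbitOK (A : List (List ℤ)) (R : List Entry) (root : List ℤ) : Bool :=
  ((R.map fun e => e.1).zip (R.map fun e => e.1).tail).all (fun p => decide (p.1 < p.2)) &&
    R.all (entryOK A R root)

theorem pairwise_of_zip : ∀ l : List ℕ, ((l.zip l.tail).all fun p => decide (p.1 < p.2)) = true →
    l.Pairwise (· < ·)
  | [], _ => List.Pairwise.nil
  | [_], _ => List.pairwise_singleton _ _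
  | a :: b :: l, h => by
    simp only [List.tail_cons, List.zip_cons_cons, List.all_cons, Bool.and_eq_true, decide_eq_true_eq] at h
    have ih := pairwise_of_zip (b :: l) h.2
    refine List.pairwise_cons.2 ⟨fun c hc => ?_, ih⟩
    rcases List.mem_cons.1 hc with rfl | hc
    · exact h.1
    · exact h.1.trans ((List.pairwise_cons.1 ih).1 c hc)

theorem rot_compose : ∀ a < 23, ∀ b < 23, ∀ i < 24, rotSrc a i < 24 ∧
    rotSrc b (rotSrc a i) = rotSrc ((a + b) % 23) i := by decide +kernel

theorem toFun_rot {u v : List ℤ} (k : ℕ) (hk : k < 23) (h : toFun u = toFun v) : rotList k u = rotList k v := by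
  rw [rotList_eq, rotList_eq]
  refine List.map_congr_left fun i hi => ?_
  have hlt := (rot_compose k hk 0 (by norm_num) i (List.mem_range.1 hi)).1
  have := congrFun h (pt (rotSrc k i))
  simpa [toFun, idx_pt hlt] using this

theorem rot_rot (a b : ℕ) (ha : a < 23) (hb : b < 23) (v : List ℤ) :
    rotList a (rotList b v) = rotList ((a + b) % 23) v := by
  rw [rotList_eq, rotList_eq, rotList_eq]
  refine List.map_congr_left fun i hi => ?_
  obtain ⟨h1, h2⟩ := rot_compose a ha b hb i (List.mem_range.1 hi)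
  simp only [List.getD_eq_getElem?_getD, List.getElem?_map, List.getElem?_range h1,
    Option.map_some, Option.getD_some, h2]

theorem rot_zero (n : ℕ) : rotList 0 (dec n) = dec n := by
  rw [rotList_eq]
  refine List.map_congr_left fun i hi => ?_
  have hi' := List.mem_range.1 hi
  have e : rotSrc 0 i = i := by
    unfold rotSrc
    split_ifs with h
    · exact h.symm
    · rw [Nat.zero_mod, Nat.sub_zero, Nat.add_mod_right]
      exact Nat.mod_eq_of_lt (by omega)
  simp [e, dec, hi']

/-- The tree gives `23` vectors of the orbit for each entry. -/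
theorem orbit_bound {A : List (List ℤ)} (h : matOK A = true) {R : List Entry} {root : List ℤ}
    (hR : orbitOK A R root = true) (hroot : toFun root ∈ leechLattice) {H : Subgroup ↥Co0}
    (ht : matEl A h ∈ H) (hx : xEl ∈ H) :
    23 * R.length ≤ (MulAction.orbit H (⟨toFun root, hroot⟩ : ↥leechLattice)).ncard := by
  haveI := co0_finite
  simp only [orbitOK, Bool.and_eq_true, List.all_eq_true] at hR
  obtain ⟨hsort, hall⟩ := hR
  have hsorted := pairwise_of_zip (R.map fun e => e.1) (List.all_eq_true.2 hsort)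
  set v₀ : ↥leechLattice := ⟨toFun root, hroot⟩
  have key : ∀ d, ∀ e ∈ R, e.2.2.2.2 = d →
      ∃ hv : toFun (dec e.1) ∈ leechLattice, (⟨_, hv⟩ : ↥leechLattice) ∈ MulAction.orbit H v₀ := by
    intro d
    induction d using Nat.strong_induction_on with
    | h d ih =>
      intro e he hd
      have hc := hall e he
      simp only [entryOK, Bool.and_eq_true] at hc
      obtain ⟨⟨hc, -⟩, -⟩ := hc
      split_ifs at hc with h0
      · rw [beq_iff_eq] at hc
        refine ⟨hc ▸ hroot, ?_⟩
        convert MulAction.mem_orbit_self v₀ using 1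
        exact Subtype.ext (congrArg toFun hc)
      simp only [Bool.and_eq_true, decide_eq_true_eq, beq_iff_eq] at hc
      obtain ⟨⟨⟨⟨hp, hdep⟩, ha⟩, hk⟩, hval⟩ := hc
      have hq : R.getD e.2.1 (0, 0, 0, 0, 0) ∈ R := by
        rw [List.getD_eq_getElem?_getD, List.getElem?_eq_getElem hp, Option.getD_some]
        exact List.getElem_mem hp
      obtain ⟨hm, g, hg⟩ := ih _ (hd ▸ hdep) _ hq rfl
      set q := R.getD e.2.1 (0, 0, 0, 0, 0)
      have e1 := xEl_smul e.2.2.2.1 hk (dec q.1) hm
      have m1 : toFun (rotList e.2.2.2.1 (dec q.1)) ∈ leechLattice := e1 ▸ Subtype.prop _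
      have e2 : ((matEl A h • (⟨_, m1⟩ : ↥leechLattice) : ↥leechLattice) : GolayPt → ℤ) = _ :=
        (matEl_apply h _).trans (matFun_toFun A _)
      have m2 : toFun (matList A (rotList e.2.2.2.1 (dec q.1))) ∈ leechLattice := e2 ▸ Subtype.prop _
      have e3 := xEl_smul e.2.2.1 ha _ m2
      rw [hval] at e3
      refine ⟨e3 ▸ Subtype.prop _, ⟨xEl ^ e.2.2.1 * (matEl A h * xEl ^ e.2.2.2.1),
        mul_mem (pow_mem hx _) (mul_mem ht (pow_mem hx _))⟩ * g, ?_⟩
      show (xEl ^ e.2.2.1 * (matEl A h * xEl ^ e.2.2.2.1) * (g : ↥Co0)) • v₀ = _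
      rw [mul_smul, show (g : ↥Co0) • v₀ = ⟨_, hm⟩ from hg, mul_smul, mul_smul,
        show xEl ^ e.2.2.2.1 • (⟨_, hm⟩ : ↥leechLattice) = ⟨_, m1⟩ from Subtype.ext e1,
        show matEl A h • (⟨_, m1⟩ : ↥leechLattice) = ⟨_, m2⟩ from Subtype.ext e2]
      exact Subtype.ext e3
  choose hv horb using fun n : Fin R.length => key _ (R.get n) (R.get_mem n) rfl
  let f : Fin R.length × Fin 23 → MulAction.orbit H v₀ := fun nk =>
    ⟨xEl ^ nk.2.1 • (⟨_, hv nk.1⟩ : ↥leechLattice), by
      obtain ⟨g, hg⟩ := horb nk.1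
      exact ⟨⟨xEl ^ nk.2.1, pow_mem hx _⟩ * g,
        (mul_smul _ g v₀).trans (congrArg (fun v => xEl ^ nk.2.1 • v) hg)⟩⟩
  have hf : Function.Injective f := by
    rintro ⟨n, k⟩ ⟨m, l⟩ hnm
    have e : toFun (rotList k (dec (R.get n).1)) = toFun (rotList l (dec (R.get m).1)) := by
      have := congrArg (fun o : MulAction.orbit H v₀ => ((o.1 : ↥leechLattice) : GolayPt → ℤ)) hnm
      simp only [f] at this
      rwa [xEl_smul _ k.2, xEl_smul _ l.2] at this
    have hmin : ∀ n : Fin R.length, enc (dec (R.get n).1) = (R.get n).1 ∧ ∀ j < 22,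
        (R.get n).1 < enc (rotList (j + 1) (dec (R.get n).1)) := fun n => by
      have hc := hall _ (R.get_mem n)
      simp only [entryOK, Bool.and_eq_true, beq_iff_eq, List.all_eq_true, List.mem_range,
        decide_eq_true_eq] at hc
      exact ⟨hc.1.2, hc.2⟩
    have cmp : ∀ (n m : Fin R.length) (k l : Fin 23),
        toFun (rotList k (dec (R.get n).1)) = toFun (rotList l (dec (R.get m).1)) →
        (k = l → (R.get n).1 = (R.get m).1) ∧ (k ≠ l → (R.get m).1 < (R.get n).1) := by
      intro n m k l e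
      have h1 := toFun_rot ((23 - k.1) % 23) (Nat.mod_lt _ (by norm_num)) e
      rw [rot_rot _ _ (Nat.mod_lt _ (by norm_num)) k.2, rot_rot _ _ (Nat.mod_lt _ (by norm_num)) l.2,
        show ((23 - k.1) % 23 + k.1) % 23 = 0 by omega, rot_zero] at h1
      obtain ⟨c, hc, hc'⟩ : ∃ c, ((23 - k.1) % 23 + l.1) % 23 = c ∧ (c = 0 ↔ k = l) :=
        ⟨_, rfl, by rw [Fin.ext_iff]; omega⟩
      rw [hc] at h1
      constructor
      · intro hkl
        rw [hc'.2 hkl, rot_zero] at h1
        rw [← (hmin n).1, h1, (hmin m).1]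
      · intro hkl
        have hc0 : c ≠ 0 := fun h0 => hkl (hc'.1 h0)
        obtain ⟨j, rfl⟩ : ∃ j, c = j + 1 := ⟨c - 1, by omega⟩
        rw [← (hmin n).1, h1]
        exact (hmin m).2 j (by omega)
    have h1 := cmp n m k l e
    have h2 := cmp m n l k e.symm
    by_cases hkl : k = l
    · have := h1.1 hkl
      subst hkl
      congr 1
      by_contra hne
      have hs := List.pairwise_map.1 hsorted
      rw [List.pairwise_iff_get] at hs
      rcases lt_or_gt_of_ne hne with hlt | hlt
      · exact absurd this (hs n m hlt).ne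
      · exact absurd this (hs m n hlt).ne'
    · exact absurd (h1.2 hkl) (h2.2 (Ne.symm hkl)).not_gt
  have hfin : Finite (MulAction.orbit H v₀) := (MulAction.orbitEquivQuotientStabilizer H v₀).finite_iff.2 inferInstance
  have := Nat.card_le_card_of_injective f hf
  rw [Nat.card_prod, Nat.card_fin, Nat.card_fin, Nat.card_coe_set_eq] at this
  omega

end Cfsg.Agent.FGS4.ConwayOut
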