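import Cfsg.Agent.FGS4.ConwayOut.Setup
import Cfsg.Agent.FGS4.ConwayOut.Orbit
import Cfsg.Prelude.Def_KGroupFacts

/-!
# Triviality of the outer automorphism group from three generators
-/

set_option autoImplicit false
set_option maxRecDepth 20000

namespace Cfsg.Agent.FGS4.ConwayOut

open Cfsg Cfsg.Agent Cfsg.Agent.Golay Cfsg.Agent.FGS4.SingleBlock
open scoped Pointwise

/-- The certificate. -/
structure Data (t : ℤ) where
  A : List (List ℤ)
  w : List ℤ
  s : ℕ
  cert : ℕ → ℕ → List ℕ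
  hA : matOK A = true
  hfix : matList A (peakList t) = peakList t
  himg : matList A (e8List 23) = w
  hsols : solsOK t w = true
  hne : w ≠ e8List 23
  hs : s = 1 ∨ s = 10
  hrel : wordTriv A [0, 24, 0, 23 + (11 - s)] = true
  hxy : wordTriv A [24, 1, 33, 21] = true
  hcert : ∀ j < 11, ∀ a ∈ [1, 22], (a = 1 ∧ j = 0) ∨ ((cert a j).all (· < 23) = true ∧
    wordTriv A (cert a j) = true ∧
    wordMoves A ((cert a j).flatMap fun k => if k = 0 then [0, 23 + j] else [a * k % 23]) = true)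

variable {t : ℤ} {hm : peakVec none t ∈ leechLattice} (D : Data t)

/-- The involution. -/
noncomputable def Data.el : ↥Co0 := matEl D.A D.hA

theorem Data.el_sq : D.el * D.el = 1 := matEl_mul_self D.hA

theorem Data.el_mem : D.el ∈ PG t hm := by
  refine MulAction.mem_stabilizer_iff.2 (Subtype.ext ?_)
  rw [Data.el, matEl_apply]
  show matFun D.A (peakVec none t) = peakVec none t
  rw [← peakList_eq, matFun_toFun, D.hfix]

theorem Data.el_e8 : ((D.el • e8 none : ↥leechLattice) : GolayPt → ℤ) = toFun D.w := by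
  rw [Data.el, matEl_apply, ← e8_eq none, matFun_toFun]
  exact congrArg toFun D.himg

theorem Data.el_y : D.el * yEl * D.el⁻¹ = yEl ^ D.s := by
  have h := wordEl_eq_one D.hA D.hrel
  simp only [wordEl, letterEl, mul_one, show (24 : ℕ) ≠ 0 by norm_num,
    show ¬ (24 : ℕ) < 23 by norm_num, show 23 + (11 - D.s) ≠ 0 by omega,
    show ¬ 23 + (11 - D.s) < 23 by omega, if_true, if_false, Nat.add_sub_cancel_left] at h
  rw [show (24 : ℕ) - 23 = 1 from rfl, pow_one] at h
  have hinv : D.el⁻¹ = D.el := inv_eq_of_mul_eq_one_right D.el_sq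
  have h11 : yEl ^ (11 - D.s) * yEl ^ D.s = 1 := by
    rw [← pow_add, show 11 - D.s + D.s = 11 by rcases D.hs with h | h <;> omega, ← orderOf_yEl,
      pow_orderOf_eq_one]
  calc D.el * yEl * D.el⁻¹ = matEl D.A D.hA * (yEl * (matEl D.A D.hA * yEl ^ (11 - D.s))) * yEl ^ D.s := by
        rw [mul_assoc (matEl D.A D.hA) _ (yEl ^ D.s), mul_assoc yEl _ (yEl ^ D.s),
          mul_assoc (matEl D.A D.hA) (yEl ^ (11 - D.s)), h11, mul_one, hinv, Data.el, mul_assoc]
    _ = yEl ^ D.s := by rw [h, one_mul]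

include D in
theorem x_y : yEl * xEl * yEl⁻¹ = xEl ^ 2 := by
  have h := wordEl_eq_one D.hA D.hxy
  simp only [wordEl, letterEl, mul_one, show (24 : ℕ) ≠ 0 by norm_num, show (1 : ℕ) ≠ 0 by norm_num,
    show (1 : ℕ) < 23 by norm_num, show (33 : ℕ) ≠ 0 by norm_num, show ¬ (33 : ℕ) < 23 by norm_num,
    show (21 : ℕ) ≠ 0 by norm_num, show (21 : ℕ) < 23 by norm_num,
    show ¬ (24 : ℕ) < 23 by norm_num, if_true, if_false] at h
  rw [show (24 : ℕ) - 23 = 1 from rfl, show (33 : ℕ) - 23 = 10 from rfl, pow_one, pow_one] at h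
  have hy : yEl⁻¹ = yEl ^ 10 := inv_eq_of_mul_eq_one_right (by
    rw [← pow_succ']
    exact orderOf_dvd_iff_pow_eq_one.1 (by rw [orderOf_yEl]))
  have hx : xEl ^ 21 * xEl ^ 2 = 1 := by
    rw [← pow_add]
    exact orderOf_dvd_iff_pow_eq_one.1 (by rw [orderOf_xEl])
  calc yEl * xEl * yEl⁻¹ = yEl * (xEl * (yEl ^ 10 * xEl ^ 21)) * xEl ^ 2 := by
        rw [hy, mul_assoc yEl _ (xEl ^ 2), mul_assoc xEl _ (xEl ^ 2), mul_assoc (yEl ^ 10), hx, mul_one,
          mul_assoc]
    _ = xEl ^ 2 := by rw [h, one_mul]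

include D in
theorem normalizer_y (ht : 1 < t ∨ t < -1) {z : ↥Co0} (hz : z ∈ PG t hm)
    (hN : z ∈ Subgroup.normalizer ((Subgroup.zpowers yEl : Subgroup ↥Co0) : Set ↥Co0)) :
    ∃ σ ∈ Subgroup.normalizer ((Subgroup.zpowers y23 : Subgroup ↥S23) : Set ↥S23),
      emb23 σ = z ∨ D.el * emb23 σ = z := by
  have hfix : yEl • z • e8 none = z • e8 none := by
    have hmem : z⁻¹ * yEl * z ∈ Subgroup.zpowers yEl := by
      have h' := (Subgroup.mem_normalizer_iff.1 (Subgroup.inv_mem _ hN) yEl).1 (Subgroup.mem_zpowers _)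
      rwa [inv_inv] at h'
    have h1 := zpowers_fix yEl_fix hmem
    rwa [mul_smul, mul_smul, inv_smul_eq_iff] at h1
  have hd : dotInt (peakVec none t) ((z • e8 none : ↥leechLattice) : GolayPt → ℤ) = 8 * t := by
    have := co0_dot z (⟨_, hm⟩ : ↥leechLattice) (e8 none)
    rw [MulAction.mem_stabilizer_iff.1 hz, dotInt_e8] at this
    change _ = peakVec none t none * 8 at this
    rw [show peakVec none t none = t from rfl] at this
    rw [mul_comm 8 t]
    exact this
  have lift : ∀ u : ↥Co0, u ∈ PG t hm → u • e8 none = e8 none →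
      u ∈ Subgroup.normalizer ((Subgroup.zpowers yEl : Subgroup ↥Co0) : Set ↥Co0) →
      ∃ σ ∈ Subgroup.normalizer ((Subgroup.zpowers y23 : Subgroup ↥S23) : Set ↥S23), emb23 σ = u := by
    intro u hu he hNu
    obtain ⟨σ, rfl⟩ := exists_emb23 ht hu he
    refine ⟨σ, ?_, rfl⟩
    have key : ∀ k : ↥S23, k ∈ Subgroup.zpowers y23 ↔ emb23 k ∈ Subgroup.zpowers yEl := fun k => by
      rw [← emb23_y, ← MonoidHom.map_zpowers]
      exact (Subgroup.mem_map_iff_mem emb23_injective).symm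
    rw [Subgroup.mem_normalizer_iff] at hNu ⊢
    intro h
    rw [key, key, map_mul, map_mul, map_inv]
    exact hNu _
  rcases fixed_two D.hsols hfix ((co0_norm z (e8 none)).trans (sqNorm_e8 none)) hd with h | h
  · obtain ⟨σ, hσ, e⟩ := lift z hz h hN
    exact ⟨σ, hσ, Or.inl e⟩
  · have htN : D.el ∈ Subgroup.normalizer ((Subgroup.zpowers yEl : Subgroup ↥Co0) : Set ↥Co0) := by
      haveI := co0_finite
      refine Subgroup.mem_normalizer_iff_map_conj_eq.2 (Subgroup.eq_of_le_of_card_ge ?_ ?_)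
      · rw [MonoidHom.map_zpowers]
        refine Subgroup.zpowers_le.2 ?_
        show D.el * yEl * D.el⁻¹ ∈ _
        rw [D.el_y]
        exact Subgroup.npow_mem_zpowers _ _
      · rw [Subgroup.card_map_of_injective (MulAut.conj D.el).injective]
    obtain ⟨σ, hσ, e⟩ := lift (D.el * z) (mul_mem D.el_mem hz) (by
      rw [mul_smul, show z • e8 none = D.el • e8 none from Subtype.ext (h.trans D.el_e8.symm), ← mul_smul,
        D.el_sq, one_smul]) (mul_mem htN hN)
    exact ⟨σ, hσ, Or.inr (by rw [e, ← mul_assoc, D.el_sq, one_mul])⟩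

include D in
theorem involution_eq (ht : 1 < t ∨ t < -1) {z : ↥Co0} (hz : z ∈ PG t hm) (h1 : z ≠ 1) (h2 : z * z = 1)
    (hN : z ∈ Subgroup.normalizer ((Subgroup.zpowers yEl : Subgroup ↥Co0) : Set ↥Co0)) :
    ∃ j < 11, z = D.el * yEl ^ j := by
  haveI := co0_finite
  obtain ⟨σ, hσ, hcase⟩ := normalizer_y D ht hz hN
  obtain ⟨m, hm22, hmσ⟩ := exists_M22 hσ
  have h55 : σ ^ 55 = 1 := by
    refine Subtype.ext ?_
    have h := Subgroup.orderOf_mk (H := Subgroup.normalizer ((Subgroup.zpowers y22 : Subgroup Spor.M22) : Set Spor.M22)) m hm22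
    have h' : orderOf m ∣ 55 := h ▸ normalizer_y22 ▸ orderOf_dvd_natCard _
    rw [SubmonoidClass.coe_pow, ← hmσ, ← SubmonoidClass.coe_pow, orderOf_dvd_iff_pow_eq_one.1 h']
    rfl
  rcases hcase with rfl | rfl
  · exfalso
    have h3 : σ * σ = 1 := emb23_injective (by rw [map_mul, h2, map_one])
    have h4 : σ = 1 := by
      calc σ = σ * (σ * σ) ^ 27 := by rw [h3, one_pow, mul_one]
        _ = σ ^ 55 := by rw [← pow_two, ← pow_mul, ← pow_succ']
        _ = 1 := h55
    exact h1 (by rw [h4, map_one])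
  · have hconj : D.el * emb23 σ * D.el⁻¹ = (emb23 σ)⁻¹ := by
      rw [inv_eq_of_mul_eq_one_right D.el_sq]
      exact eq_inv_of_mul_eq_one_left (by rw [mul_assoc _ D.el]; exact h2)
    have hyσ : σ * y23 * σ⁻¹ ∈ Subgroup.zpowers y23 :=
      (Subgroup.mem_normalizer_iff.1 hσ y23).1 (Subgroup.mem_zpowers _)
    obtain ⟨k, hk⟩ := Subgroup.mem_zpowers_iff.1 hyσ
    have hk' : emb23 σ * yEl * (emb23 σ)⁻¹ = yEl ^ k := by
      rw [← emb23_y, ← map_mul, ← map_inv, ← map_mul, ← map_zpow, hk]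
    have hty : D.el⁻¹ * yEl * D.el = yEl ^ D.s := by
      rw [inv_eq_of_mul_eq_one_right D.el_sq, ← D.el_y, inv_eq_of_mul_eq_one_right D.el_sq]
    have hk2 : (emb23 σ)⁻¹ * yEl * emb23 σ = yEl ^ k := by
      have e1 : D.el * (emb23 σ * yEl ^ D.s * (emb23 σ)⁻¹) * D.el⁻¹ = (emb23 σ)⁻¹ * yEl * emb23 σ := by
        rw [← hty]
        calc D.el * (emb23 σ * (D.el⁻¹ * yEl * D.el) * (emb23 σ)⁻¹) * D.el⁻¹
            = (D.el * emb23 σ * D.el⁻¹) * yEl * (D.el * emb23 σ * D.el⁻¹)⁻¹ := by group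
          _ = _ := by rw [hconj, inv_inv]
      have hs2 : yEl ^ (D.s * D.s) = yEl := by
        rw [← pow_mod_orderOf, orderOf_yEl]
        rcases D.hs with h | h <;> simp [h]
      rw [← e1, ← conj_pow, hk', ← zpow_natCast (yEl ^ k), ← zpow_mul, mul_comm k, zpow_mul, zpow_natCast,
        ← conj_zpow, ← conj_pow, D.el_y, ← pow_mul, hs2]
    have hsq : Commute (σ * σ) y23 := emb23_injective (by
      simp only [map_mul, emb23_y]
      have e3 : emb23 σ * emb23 σ * yEl * (emb23 σ * emb23 σ)⁻¹ = yEl := by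
        calc emb23 σ * emb23 σ * yEl * (emb23 σ * emb23 σ)⁻¹
            = emb23 σ * (emb23 σ * yEl * (emb23 σ)⁻¹) * (emb23 σ)⁻¹ := by group
          _ = emb23 σ * ((emb23 σ)⁻¹ * yEl * emb23 σ) * (emb23 σ)⁻¹ := by rw [hk', hk2]
          _ = yEl := by group
      exact mul_inv_eq_iff_eq_mul.1 e3)
    have hcomm : Commute σ y23 := by
      have h28 : (σ * σ) ^ 28 = σ := by
        rw [← pow_two, ← pow_mul, show 2 * 28 = 55 + 1 by norm_num, pow_succ, h55, one_mul]
      exact h28 ▸ hsq.pow_left 28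
    have hmc : Commute m y22 := Subtype.ext (by
      rw [Subgroup.coe_mul, Subgroup.coe_mul, hmσ]
      exact congrArg (fun u : ↥S23 => (u : Equiv.Perm GolayPt)) hcomm.eq)
    obtain ⟨n, hn⟩ := Subgroup.mem_zpowers_iff.1 (centralizer_y22 hm22 hmc)
    have hσn : σ = y23 ^ n := Subtype.ext (by
      rw [← hmσ, ← hn, SubgroupClass.coe_zpow, SubgroupClass.coe_zpow]; rfl)
    refine ⟨(n % 11).toNat, by omega, ?_⟩
    rw [hσn, map_zpow, emb23_y]
    congr 1
    rw [← zpow_natCast, Int.toNat_of_nonneg (Int.emod_nonneg n (by norm_num)), ← zpow_mod_orderOf,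
      orderOf_yEl]
    norm_num

/-- Evaluation of a word in two generators. -/
def evalW {Γ : Type*} [Group Γ] (T X : Γ) (w : List ℕ) : Γ := (w.map fun k => if k = 0 then T else X ^ k).prod

theorem evalW_map {Γ : Type*} [Group Γ] (φ : MulAut Γ) (T X : Γ) (w : List ℕ) :
    φ (evalW T X w) = evalW (φ T) (φ X) w := by
  rw [evalW, map_list_prod, List.map_map, evalW]
  refine congrArg List.prod (List.map_congr_left fun k _ => ?_)
  simp only [Function.comp_apply]
  split_ifs <;> simp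

theorem evalW_subst (T : ↥Co0) (a j : ℕ) (ha : a = 1 ∨ a = 22) (hj : j < 11) (w : List ℕ)
    (hw : ∀ k ∈ w, k < 23) :
    evalW (T * yEl ^ j) (xEl ^ a) w =
      wordEl T (w.flatMap fun k => if k = 0 then [0, 23 + j] else [a * k % 23]) := by
  induction w with
  | nil => rfl
  | cons k w ih =>
    have ih' := ih fun l hl => hw l (List.mem_cons_of_mem _ hl)
    have hk23 := hw k List.mem_cons_self
    rw [show evalW (T * yEl ^ j) (xEl ^ a) (k :: w) = (if k = 0 then T * yEl ^ j else (xEl ^ a) ^ k) *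
      evalW (T * yEl ^ j) (xEl ^ a) w from by simp [evalW], List.flatMap_cons, ih']
    by_cases hk : k = 0
    · rw [if_pos hk, if_pos hk]
      simp [wordEl, letterEl, mul_assoc]
    · have hne : a * k % 23 ≠ 0 := by rcases ha with rfl | rfl <;> omega
      rw [if_neg hk, if_neg hk, ← pow_mul, ← pow_mod_orderOf, orderOf_xEl]
      simp [wordEl, letterEl, hne, Nat.mod_lt (a * k) (show 0 < 23 by norm_num)]

theorem evalW_eq (T : ↥Co0) (w : List ℕ) (hw : ∀ k ∈ w, k < 23) :
    evalW T xEl w = wordEl T w := by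
  induction w with
  | nil => rfl
  | cons k w ih =>
    rw [show evalW T xEl (k :: w) = (if k = 0 then T else xEl ^ k) * evalW T xEl w from by simp [evalW],
      ih fun l hl => hw l (List.mem_cons_of_mem _ hl), wordEl, letterEl]
    by_cases hk : k = 0
    · rw [if_pos hk, if_pos hk]
    · rw [if_neg hk, if_neg hk, if_pos (hw k List.mem_cons_self)]

theorem evalW_coe {H : Subgroup ↥Co0} (T X : H) (w : List ℕ) :
    ((evalW T X w : H) : ↥Co0) = evalW (T : ↥Co0) (X : ↥Co0) w := by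
  rw [evalW, ← Subgroup.coe_subtype, map_list_prod, List.map_map, evalW]
  refine congrArg List.prod (List.map_congr_left fun k _ => ?_)
  simp only [Function.comp_apply]
  split_ifs <;> simp

include D in
theorem card_out (ht : 1 < t ∨ t < -1) {N : ℕ} (hN : Nat.card (PG t hm) = N) (h23 : ¬ 23 ^ 2 ∣ N)
    (hgen : ∀ H : Subgroup ↥Co0, H ≤ PG t hm → xEl ∈ H → yEl ∈ H → D.el ∈ H → H = PG t hm) :
    Nat.card (Cfsg.Out (PG t hm)) = 1 := by
  haveI := co0_finite
  haveI := Fact.mk (by norm_num : Nat.Prime 23)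
  set G := PG t hm
  let X : G := ⟨xEl, xEl_mem ht⟩
  let Y : G := ⟨yEl, yEl_mem ht⟩
  let T : G := ⟨D.el, D.el_mem⟩
  have hXo : orderOf X = 23 := (Subgroup.orderOf_coe X).symm.trans orderOf_xEl
  have hYX : Y * X * Y⁻¹ = X ^ 2 := Subtype.ext (x_y D)
  have hYi : ∀ i a : ℕ, Y ^ i * X ^ a * (Y ^ i)⁻¹ = X ^ (2 ^ i * a) := by
    intro i a
    induction i with
    | zero => simp
    | succ i ih =>
      calc Y ^ (i + 1) * X ^ a * (Y ^ (i + 1))⁻¹ = Y * (Y ^ i * X ^ a * (Y ^ i)⁻¹) * Y⁻¹ := by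
            rw [pow_succ']; group
        _ = (Y * X * Y⁻¹) ^ (2 ^ i * a) := by rw [ih, conj_pow]
        _ = X ^ (2 ^ (i + 1) * a) := by rw [hYX, ← pow_mul, pow_succ]; congr 1; ring
  have hYX' : Y⁻¹ * X * Y = X ^ 12 := by
    have h24 : X = X ^ 24 := by rw [pow_succ, ← hXo, pow_orderOf_eq_one, one_mul]
    conv_lhs => rw [h24, show (24 : ℕ) = 2 * 12 by norm_num, pow_mul, ← hYX, conj_pow]
    group
  suffices key : ∀ φ : MulAut G, φ ∈ Inn G by
    haveI : Subsingleton (Cfsg.Out G) := ⟨fun p q => by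
      obtain ⟨a, rfl⟩ := QuotientGroup.mk'_surjective (Inn G) p
      obtain ⟨b, rfl⟩ := QuotientGroup.mk'_surjective (Inn G) q
      exact QuotientGroup.eq.2 (key _)⟩
    exact Nat.card_unique
  have step : ∀ (g : G) (φ : MulAut G), MulAut.conj g * φ ∈ Inn G → φ ∈ Inn G := fun g φ h => by
    have h' := mul_mem (inv_mem (⟨g, rfl⟩ : MulAut.conj g ∈ Inn G)) h
    rwa [inv_mul_cancel_left] at h'
  have last : ∀ φ : MulAut G, ∀ a ∈ [1, 22], φ X = X ^ a → φ Y = Y → φ ∈ Inn G := by
    intro φ a ha hX hY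
    have hTN : ((φ T : G) : ↥Co0) ∈ Subgroup.normalizer ((Subgroup.zpowers yEl : Subgroup ↥Co0) : Set ↥Co0) := by
      have hT : T * Y * T⁻¹ = Y ^ D.s := Subtype.ext D.el_y
      have h' := congrArg (fun u : G => ((φ u : G) : ↥Co0)) hT
      simp only [map_mul, map_inv, map_pow, hY, Subgroup.coe_mul, Subgroup.coe_inv, SubmonoidClass.coe_pow] at h'
      refine Subgroup.mem_normalizer_iff_map_conj_eq.2 (Subgroup.eq_of_le_of_card_ge ?_ ?_)
      · rw [MonoidHom.map_zpowers]
        refine Subgroup.zpowers_le.2 ?_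
        show ((φ T : G) : ↥Co0) * yEl * _ ∈ _
        rw [h']
        exact Subgroup.npow_mem_zpowers _ _
      · rw [Subgroup.card_map_of_injective (MulAut.conj _).injective]
    have hT2 : T * T = 1 := Subtype.ext D.el_sq
    have hT1 : φ T ≠ 1 := fun e => by
      have e' : D.el = 1 := congrArg Subtype.val (φ.injective (e.trans (map_one φ).symm))
      have := D.el_e8
      rw [e', one_smul, ← e8_eq none] at this
      refine D.hne ?_
      refine List.ext_getElem ?_ fun i h1 h2 => ?_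
      · rw [← D.himg]; simp [matList_eq, e8List]
      · have h24 : i < 24 := by simpa [e8List] using h2
        have h3 := congrFun this (pt i)
        simp only [toFun, idx_pt h24, List.getD_eq_getElem?_getD, List.getElem?_eq_getElem h1,
          List.getElem?_eq_getElem (show i < (e8List (idx none)).length from h2), Option.getD_some] at h3
        exact h3.symm
    obtain ⟨j, hj, hTj⟩ := involution_eq D ht (φ T).2 (fun e => hT1 (Subtype.ext e))
      (congrArg Subtype.val ((map_mul φ T T).symm.trans (by rw [hT2, map_one]))) hTN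
    rcases D.hcert j hj a ha with ⟨rfl, rfl⟩ | ⟨hw, h1, h2⟩
    · have hall : φ.toMonoidHom.eqLocus (MonoidHom.id G) = ⊤ := by
        set E := φ.toMonoidHom.eqLocus (MonoidHom.id G)
        have hle : E.map G.subtype ≤ G := by rintro _ ⟨u, -, rfl⟩; exact u.2
        have := hgen (E.map G.subtype) hle ⟨X, show φ X = X by rw [hX, pow_one], rfl⟩
          ⟨Y, hY, rfl⟩ ⟨T, show φ T = T from Subtype.ext (by rw [hTj, pow_zero, mul_one]), rfl⟩
        refine eq_top_iff.2 fun u _ => ?_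
        obtain ⟨v, hv, e⟩ := (this.symm ▸ u.2 : (u : ↥Co0) ∈ E.map G.subtype)
        rwa [← Subtype.ext e]
      refine ⟨1, ?_⟩
      rw [map_one]
      refine (MulEquiv.ext fun u => ?_).symm
      exact (hall ▸ Subgroup.mem_top u : u ∈ φ.toMonoidHom.eqLocus (MonoidHom.id G))
    · exfalso
      simp only [List.all_eq_true, decide_eq_true_eq] at hw
      have e1 : evalW T X (D.cert a j) = 1 := Subtype.ext (by
        rw [evalW_coe, evalW_eq _ _ hw]
        exact wordEl_eq_one D.hA h1)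
      have e2 := congrArg (fun u : G => ((φ u : G) : ↥Co0)) e1
      simp only [evalW_map, map_one, evalW_coe, hX, SubmonoidClass.coe_pow, hTj, Subgroup.coe_one] at e2
      rw [evalW_subst D.el a j (by simpa using ha) hj _ hw] at e2
      exact wordEl_ne_one D.hA h2 e2
  have mid : ∀ φ : MulAut G, ∀ a ∈ [1, 22], φ X = X ^ a → φ ∈ Inn G := by
    intro φ a ha hX
    have ha2 : ∀ v : G, v = X → (v ^ a) ^ a = v := fun v hv => by
      subst hv
      rw [← pow_mul, ← pow_mod_orderOf, hXo]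
      simp only [List.mem_cons, List.not_mem_nil, or_false] at ha
      rcases ha with rfl | rfl <;> norm_num
    have hc : Commute (Y⁻¹ * φ Y) (X ^ a) := by
      have h := congrArg φ hYX
      rw [map_mul, map_mul, map_inv, map_pow, hX] at h
      rw [← pow_mul, mul_comm a 2, show X ^ (2 * a) = Y * X ^ a * Y⁻¹ by simpa using (hYi 1 a).symm] at h
      show Y⁻¹ * φ Y * X ^ a = X ^ a * (Y⁻¹ * φ Y)
      calc Y⁻¹ * φ Y * X ^ a = Y⁻¹ * (φ Y * X ^ a * (φ Y)⁻¹) * φ Y := by group
        _ = X ^ a * (Y⁻¹ * φ Y) := by rw [h]; group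
    have hc' : Commute (Y⁻¹ * φ Y) X := ha2 X rfl ▸ hc.pow_right a
    have hmem := centralizer_x ht (Y⁻¹ * φ Y).2 (congrArg Subtype.val hc'.eq)
    rw [← mem_powers_iff_mem_zpowers, Submonoid.mem_powers_iff] at hmem
    obtain ⟨j, hj⟩ := hmem
    have hφY : φ Y = Y * X ^ j := by
      have e : Y⁻¹ * φ Y = X ^ j := Subtype.ext (by rw [SubmonoidClass.coe_pow]; exact hj.symm)
      rw [← e, mul_inv_cancel_left]
    refine step (X ^ (2 * j)) φ (last _ a ha ?_ ?_)
    · rw [MulAut.mul_apply, hX, MulAut.conj_apply]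
      group
    · rw [MulAut.mul_apply, hφY, MulAut.conj_apply]
      have h23j : (Y⁻¹ * X ^ (2 * j) * Y) * X ^ j * (X ^ (2 * j))⁻¹ = 1 := by
        rw [show Y⁻¹ * X ^ (2 * j) * Y = (Y⁻¹ * X * Y) ^ (2 * j) from by
            simpa [MulAut.conj_apply] using map_pow (MulAut.conj Y⁻¹) X (2 * j),
          hYX', ← pow_mul, mul_inv_eq_one, ← pow_add, show 12 * (2 * j) + j = 23 * j + 2 * j by ring,
          pow_add, pow_mul, ← hXo, pow_orderOf_eq_one, one_pow, one_mul]
      calc X ^ (2 * j) * (Y * X ^ j) * (X ^ (2 * j))⁻¹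
          = Y * ((Y⁻¹ * X ^ (2 * j) * Y) * X ^ j * (X ^ (2 * j))⁻¹) := by group
        _ = Y := by rw [h23j, mul_one]
  intro φ
  have hPX : Nat.card (Subgroup.zpowers X) = 23 := by rw [Nat.card_zpowers, hXo]
  have hfac : (Nat.card G).factorization 23 = 1 := by
    have hd : 23 ∣ Nat.card G := hXo ▸ orderOf_dvd_natCard X
    have h1 := (Nat.Prime.dvd_iff_one_le_factorization (by norm_num : Nat.Prime 23) Nat.card_pos.ne').1 hd
    have h2 : ¬ 2 ≤ (Nat.card G).factorization 23 := fun h => h23 (hN ▸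
      ((by norm_num : Nat.Prime 23).pow_dvd_iff_le_factorization Nat.card_pos.ne').2 h)
    omega
  let P : Sylow 23 G := Sylow.ofCard (Subgroup.zpowers X) (by rw [hPX, hfac, pow_one])
  have hφo : orderOf (φ X) = 23 := (φ.orderOf_eq X).trans hXo
  obtain ⟨Q, hQ⟩ := IsPGroup.exists_le_sylow (IsPGroup.of_card (p := 23) (n := 1)
    (G := Subgroup.zpowers (φ X)) (by rw [Nat.card_zpowers, hφo, pow_one]))
  obtain ⟨g, rfl⟩ := MulAction.exists_smul_eq G P Q
  obtain ⟨u, hu, hgu⟩ := hQ (Subgroup.mem_zpowers (φ X))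
  refine step g⁻¹ φ ?_
  have hu' : (MulAut.conj g⁻¹ * φ) X = u := by
    rw [MulAut.mul_apply, MulAut.conj_apply, ← hgu]
    show g⁻¹ * (g * u * g⁻¹) * g⁻¹⁻¹ = u
    group
  rw [show ((P : Subgroup G) : Set G) = (Subgroup.zpowers X : Set G) from rfl, SetLike.mem_coe,
    ← mem_powers_iff_mem_zpowers, Submonoid.mem_powers_iff] at hu
  obtain ⟨b, hb⟩ := hu
  have hb0 : b % 23 ≠ 0 := fun e => by
    have h1 : (MulAut.conj g⁻¹ * φ) X = 1 := by
      rw [hu', ← hb, ← pow_mod_orderOf, hXo, e, pow_zero]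
    have h2 : X = 1 := (MulAut.conj g⁻¹ * φ).injective (h1.trans (map_one _).symm)
    rw [h2, orderOf_one] at hXo
    norm_num at hXo
  have harith : ∀ b < 23, b ≠ 0 → ∃ i < 11, 2 ^ i * b % 23 = 1 ∨ 2 ^ i * b % 23 = 22 := by decide +kernel
  obtain ⟨i, -, hi⟩ := harith _ (Nat.mod_lt _ (by norm_num)) hb0
  refine step (Y ^ i) _ (mid _ (2 ^ i * (b % 23) % 23) (by rcases hi with h | h <;> simp [h]) ?_)
  rw [MulAut.mul_apply, hu', ← hb, MulAut.conj_apply, hYi, ← pow_mod_orderOf X (2 ^ i * b), hXo]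
  congr 1
  rw [Nat.mul_mod (2 ^ i) (b % 23), Nat.mod_mod, ← Nat.mul_mod]

include D in
theorem normalizer_x_inf (ht : 1 < t ∨ t < -1) {H : Subgroup ↥Co0} (hH : H ≤ PG t hm) (hx : xEl ∈ H)
    (hy : yEl ∈ H) :
    Nat.card (Subgroup.normalizer ((Subgroup.zpowers xEl : Subgroup ↥Co0) : Set ↥Co0) ⊓ H : Subgroup ↥Co0) = 253 := by
  haveI := co0_finite
  set N := Subgroup.normalizer ((Subgroup.zpowers xEl : Subgroup ↥Co0) : Set ↥Co0) ⊓ H
  have hle : N ≤ (Subgroup.normalizer ((Subgroup.zpowers x23 : Subgroup ↥S23) : Set ↥S23)).map emb23 := by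
    rintro g ⟨hgN, hgH⟩
    obtain ⟨σ, hσ, e⟩ := normalizer_x_card ht (hH hgH) hgN
    exact ⟨σ, hσ, e⟩
  have h1 : Nat.card N ∣ 253 := by
    have := Subgroup.card_dvd_of_le hle
    rwa [Subgroup.card_map_of_injective emb23_injective, normalizer_x23_card] at this
  have hyN : yEl ∈ N := ⟨Subgroup.mem_normalizer_iff_map_conj_eq.2 (Subgroup.eq_of_le_of_card_ge (by
    rw [MonoidHom.map_zpowers]
    refine Subgroup.zpowers_le.2 ?_
    show yEl * xEl * yEl⁻¹ ∈ _
    rw [x_y D]
    exact Subgroup.npow_mem_zpowers _ _) (by rw [Subgroup.card_map_of_injective (MulAut.conj _).injective])), hy⟩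
  have hxN : xEl ∈ N := ⟨Subgroup.le_normalizer (Subgroup.mem_zpowers _), hx⟩
  refine Nat.dvd_antisymm h1 (Nat.Coprime.mul_dvd_of_dvd_of_dvd (m := 23) (n := 11) (by norm_num) ?_ ?_)
  · rw [← orderOf_xEl, ← Subgroup.orderOf_mk (H := N) xEl hxN]; exact orderOf_dvd_natCard _
  · rw [← orderOf_yEl, ← Subgroup.orderOf_mk (H := N) yEl hyN]; exact orderOf_dvd_natCard _

include D in
theorem normalizer_y_inf (ht : 1 < t ∨ t < -1) {H : Subgroup ↥Co0} (hH : H ≤ PG t hm)
    (hy : yEl ∈ H) (hel : D.el ∈ H) :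
    22 ∣ Nat.card (Subgroup.normalizer ((Subgroup.zpowers yEl : Subgroup ↥Co0) : Set ↥Co0) ⊓ H : Subgroup ↥Co0) ∧
      Nat.card (Subgroup.normalizer ((Subgroup.zpowers yEl : Subgroup ↥Co0) : Set ↥Co0) ⊓ H : Subgroup ↥Co0) ∣ 110 := by
  haveI := co0_finite
  set N := Subgroup.normalizer ((Subgroup.zpowers yEl : Subgroup ↥Co0) : Set ↥Co0) ⊓ H
  have htN : D.el ∈ N := ⟨Subgroup.mem_normalizer_iff_map_conj_eq.2 (Subgroup.eq_of_le_of_card_ge (by
    rw [MonoidHom.map_zpowers]
    refine Subgroup.zpowers_le.2 ?_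
    show D.el * yEl * D.el⁻¹ ∈ _
    rw [D.el_y]
    exact Subgroup.npow_mem_zpowers _ _) (by rw [Subgroup.card_map_of_injective (MulAut.conj _).injective])), hel⟩
  have hyN : yEl ∈ N := ⟨Subgroup.le_normalizer (Subgroup.mem_zpowers _), hy⟩
  have h22 : 22 ∣ Nat.card N := by
    refine Nat.Coprime.mul_dvd_of_dvd_of_dvd (m := 2) (n := 11) (by norm_num) ?_ ?_
    · rw [← orderOf_eq_prime (p := 2) (x := (⟨D.el, htN⟩ : N)) (Subtype.ext (by rw [sq]; exact D.el_sq)) ?_]
      · exact orderOf_dvd_natCard _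
      intro e
      have e' : D.el = 1 := congrArg Subtype.val e
      have h3 := D.el_e8
      rw [e', one_smul, ← e8_eq none] at h3
      refine D.hne (List.ext_getElem ?_ fun i h1 h2 => ?_)
      · rw [← D.himg]; simp [matList_eq, e8List]
      · have h24 : i < 24 := by simpa [e8List] using h2
        have h4 := congrFun h3 (pt i)
        simp only [toFun, idx_pt h24, List.getD_eq_getElem?_getD, List.getElem?_eq_getElem h1,
          List.getElem?_eq_getElem (show i < (e8List (idx none)).length from h2), Option.getD_some] at h4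
        exact h4.symm
    · rw [← orderOf_yEl, ← Subgroup.orderOf_mk (H := N) yEl hyN]; exact orderOf_dvd_natCard _
  refine ⟨h22, ?_⟩
  set B : Subgroup ↥Co0 := (Subgroup.normalizer ((Subgroup.zpowers y23 : Subgroup ↥S23) : Set ↥S23)).map emb23
  have hB : Nat.card B ∣ 55 := by
    rw [Subgroup.card_map_of_injective emb23_injective, ← normalizer_y22]
    let ι : Spor.M22 →* ↥S23 :=
      { toFun := fun m => ⟨m.1, (M22.mem_M22.1 m.2).1, (M22.mem_M22.1 m.2).2.1⟩
        map_one' := rfl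
        map_mul' := fun _ _ => rfl }
    have hι : Function.Injective ι := fun a b h => Subtype.ext (congrArg (fun u : ↥S23 => (u : Equiv.Perm GolayPt)) h)
    have hle : Subgroup.normalizer ((Subgroup.zpowers y23 : Subgroup ↥S23) : Set ↥S23) ≤
        (Subgroup.normalizer ((Subgroup.zpowers y22 : Subgroup Spor.M22) : Set Spor.M22)).map ι := fun σ hσ => by
      obtain ⟨m, hm22, e⟩ := exists_M22 hσ
      exact ⟨m, hm22, Subtype.ext e⟩
    have := Subgroup.card_dvd_of_le hle
    rwa [Subgroup.card_map_of_injective hι] at this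
  set K := N ⊓ MulAction.stabilizer ↥Co0 (e8 none)
  have hKB : K ≤ B := by
    rintro g ⟨⟨hgN, hgH⟩, hge⟩
    obtain ⟨σ, hσ, e | e⟩ := normalizer_y D ht (hH hgH) hgN
    · exact ⟨σ, hσ, e⟩
    · exfalso
      have he : g • e8 none = D.el • e8 none := by
        rw [← e, mul_smul]
        congr 1
        exact (monoEl_e8 σ.1 σ.2.1 ∅ empty_mem_supports).2 ⟨σ.2.2, Finset.notMem_empty _⟩
      rw [MulAction.mem_stabilizer_iff.1 hge] at he
      have h3 := D.el_e8
      rw [← he, ← e8_eq none] at h3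
      refine D.hne (List.ext_getElem ?_ fun i h1 h2 => ?_)
      · rw [← D.himg]; simp [matList_eq, e8List]
      · have h24 : i < 24 := by simpa [e8List] using h2
        have h4 := congrFun h3 (pt i)
        simp only [toFun, idx_pt h24, List.getD_eq_getElem?_getD, List.getElem?_eq_getElem h1,
          List.getElem?_eq_getElem (show i < (e8List (idx none)).length from h2), Option.getD_some] at h4
        exact h4.symm
  have horb : (MulAction.orbit N (e8 none)).ncard ∣ 2 := by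
    have hsub : MulAction.orbit N (e8 none) ⊆ {e8 none, D.el • e8 none} := by
      rintro _ ⟨⟨g, hgN, hgH⟩, rfl⟩
      obtain ⟨σ, -, e | e⟩ := normalizer_y D ht (hH hgH) hgN
      all_goals
        have hσe : emb23 σ • e8 none = e8 none :=
          (monoEl_e8 σ.1 σ.2.1 ∅ empty_mem_supports).2 ⟨σ.2.2, Finset.notMem_empty _⟩
      · exact Or.inl (by show g • e8 none = _; rw [← e, hσe])
      · exact Or.inr (by show g • e8 none = _; rw [← e, mul_smul, hσe])
    have h1 : (MulAction.orbit N (e8 none)).ncard ≤ 2 :=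
      (Set.ncard_le_ncard hsub (Set.toFinite _)).trans ((Set.ncard_insert_le _ _).trans (by rw [Set.ncard_singleton]))
    have h2 : 0 < (MulAction.orbit N (e8 none)).ncard :=
      (Set.ncard_pos ((Set.toFinite _).subset hsub)).2 ⟨_, MulAction.mem_orbit_self _⟩
    interval_cases h : (MulAction.orbit N (e8 none)).ncard <;> norm_num
  have hcardN : Nat.card N = (MulAction.orbit N (e8 none)).ncard * Nat.card (MulAction.stabilizer N (e8 none)) := by
    rw [← MulAction.index_stabilizer, mul_comm, Subgroup.card_mul_index]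
  have hK : Nat.card (MulAction.stabilizer N (e8 none)) ∣ 55 := by
    refine dvd_trans ?_ hB
    rw [← Subgroup.card_map_of_injective N.subtype_injective]
    refine Subgroup.card_dvd_of_le fun g hg => hKB ?_
    obtain ⟨k, hk, rfl⟩ := hg
    exact ⟨k.2, hk⟩
  rw [hcardN, show 110 = 2 * 55 by norm_num]
  exact Nat.mul_dvd_mul horb hK

include D in
/-- Numerical facts on a subgroup containing the three generators. -/
theorem gen_facts (ht : 1 < t ∨ t < -1) {N : ℕ} (hN : Nat.card (PG t hm) = N) (h23 : ¬ 23 ^ 2 ∣ N)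
    (h11 : ¬ 11 ^ 2 ∣ N) {H : Subgroup ↥Co0} (hH : H ≤ PG t hm) (hx : xEl ∈ H) (hy : yEl ∈ H)
    (hel : D.el ∈ H) :
    Nat.card H ∣ N ∧ 253 ∣ Nat.card H ∧ Nat.card H / 253 % 23 = 1 ∧
      ∃ n ∈ [22, 110], n ∣ Nat.card H ∧ Nat.card H / n % 11 = 1 := by
  haveI := co0_finite
  haveI := Fact.mk (by norm_num : Nat.Prime 23)
  haveI := Fact.mk (by norm_num : Nat.Prime 11)
  have hd : Nat.card H ∣ N := hN ▸ Subgroup.card_dvd_of_le hH
  obtain ⟨-, b, c⟩ := HSOut.count_normalizer (p := 23) (P := Subgroup.zpowers xEl) (K := H)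
    (by rw [Nat.card_zpowers, orderOf_xEl]) (Subgroup.zpowers_le.2 hx) fun e => h23 (e.trans hd)
  rw [normalizer_x_inf D ht hH hx hy] at b c
  obtain ⟨-, b', c'⟩ := HSOut.count_normalizer (p := 11) (P := Subgroup.zpowers yEl) (K := H)
    (by rw [Nat.card_zpowers, orderOf_yEl]) (Subgroup.zpowers_le.2 hy) fun e => h11 (e.trans hd)
  obtain ⟨h1, h2⟩ := normalizer_y_inf D ht hH hy hel
  refine ⟨hd, b, c, _, ?_, b', c'⟩
  have hall : ∀ n < 111, n % 22 = 0 → 110 % n = 0 → n ∈ [22, 110] := by decide +kernel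
  exact hall _ (Nat.lt_succ_of_le (Nat.le_of_dvd (by norm_num) h2)) (Nat.mod_eq_zero_of_dvd h1)
    (Nat.mod_eq_zero_of_dvd h2)

theorem orbit_dvd {H : Subgroup ↥Co0} {hG : Subgroup ↥Co0} (hH : H ≤ hG) (v : ↥leechLattice) {n : ℕ}
    (hle : (MulAction.orbit hG v).ncard ≤ n) (hge : n ≤ (MulAction.orbit H v).ncard) : n ∣ Nat.card H := by
  haveI := co0_finite
  have hsub : MulAction.orbit H v ⊆ MulAction.orbit hG v := by
    rintro _ ⟨g, rfl⟩; exact ⟨⟨g.1, hH g.2⟩, rfl⟩
  have hfin : (MulAction.orbit hG v).Finite := Set.finite_coe_iff.1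
    ((MulAction.orbitEquivQuotientStabilizer hG v).finite_iff.2 inferInstance)
  have e : (MulAction.orbit H v).ncard = n := le_antisymm ((Set.ncard_le_ncard hsub hfin).trans hle) hge
  rw [← e, ← MulAction.index_stabilizer]
  exact Subgroup.index_dvd_card _

theorem word_mem {H : Subgroup ↥Co0} {T : ↥Co0} (hT : T ∈ H) (hx : xEl ∈ H) (hy : yEl ∈ H) (w : List ℕ) :
    wordEl T w ∈ H := by
  induction w with
  | nil => exact one_mem _
  | cons k w ih =>
    refine mul_mem ?_ ih
    unfold letterEl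
    split_ifs
    · exact hT
    · exact pow_mem hx _
    · exact pow_mem hy _

theorem wordEl_append (T : ↥Co0) (u v : List ℕ) : wordEl T (u ++ v) = wordEl T u * wordEl T v := by
  induction u with
  | nil => exact (one_mul _).symm
  | cons k u ih => rw [List.cons_append, wordEl, wordEl, ih, mul_assoc]

/-- A word whose `p^e` power is trivial and whose `p^(e-1)` power is not. -/
theorem order_dvd {H : Subgroup ↥Co0} {A : List (List ℤ)} (hA : matOK A = true) (hT : matEl A hA ∈ H)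
    (hx : xEl ∈ H) (hy : yEl ∈ H) (w : List ℕ) {p e : ℕ} [hp : Fact p.Prime]
    (h1 : wordTriv A (List.replicate (p ^ (e + 1)) w).flatten = true)
    (h0 : wordMoves A (List.replicate (p ^ e) w).flatten = true) : p ^ (e + 1) ∣ Nat.card H := by
  have hpow : ∀ n, wordEl (matEl A hA) (List.replicate n w).flatten = wordEl (matEl A hA) w ^ n := by
    intro n
    induction n with
    | zero => rfl
    | succ n ih => rw [List.replicate_succ, List.flatten_cons, wordEl_append, ih, pow_succ']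
  let g : H := ⟨_, word_mem hT hx hy w⟩
  have ho : orderOf g = p ^ (e + 1) := orderOf_eq_prime_pow
    (fun h => wordEl_ne_one hA h0 (by rw [hpow]; exact congrArg Subtype.val h))
    (Subtype.ext (by rw [SubmonoidClass.coe_pow, ← hpow]; exact wordEl_eq_one hA h1))
  exact ho ▸ orderOf_dvd_natCard g

end Cfsg.Agent.FGS4.ConwayOut
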