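import Cfsg.Agent.FGS4.ConwayOut.Co1Words

/-! # Certificate for Co₁ -/

set_option autoImplicit false
set_option maxRecDepth 100000

namespace Cfsg.Agent.FGS4.ConwayOut.Co1

/-- The relations. -/
def rels : List (List ℕ) := [[15, 23, 8, 23, 15, 23, 8, 23],
  [0, 23, 0, 23, 0, 23],
  [0, 0],
  [11, 0, 11, 0, 11, 0, 11, 0, 11, 0, 11, 0, 11, 0, 11, 0, 11, 0, 11, 0, 11, 0, 11, 0],
  [16, 0, 8, 0, 19, 0, 16, 0, 8, 0, 19, 0, 16, 0, 8, 0, 19, 0, 16, 0, 8, 0, 19, 0, 16, 0, 8, 0, 19, 0, 16, 0, 8, 0, 19, 0]]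

/-- The relation separating a case. -/
def certIdx : ℕ → ℕ → ℕ → ℕ
  | 22, 0, 3 => 0
  | 1, 5, 4 => 0
  | 22, 2, 3 => 0
  | 1, 2, 2 => 0
  | 1, 3, 3 => 0
  | 1, 2, 5 => 0
  | 1, 4, 2 => 0
  | 1, 4, 5 => 0
  | 22, 1, 4 => 0
  | 22, 4, 3 => 0
  | 22, 3, 4 => 0
  | 1, 0, 4 => 0
  | 22, 5, 4 => 0
  | 1, 1, 3 => 0
  | 22, 0, 5 => 0
  | 22, 2, 2 => 0
  | 22, 0, 2 => 0
  | 22, 2, 5 => 0
  | 1, 5, 3 => 0
  | 1, 2, 4 => 0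
  | 1, 4, 4 => 0
  | 1, 3, 2 => 0
  | 22, 1, 3 => 0
  | 1, 3, 5 => 0
  | 22, 4, 5 => 0
  | 22, 3, 3 => 0
  | 22, 4, 2 => 0
  | 22, 5, 3 => 0
  | 1, 1, 2 => 0
  | 1, 1, 5 => 0
  | 1, 0, 3 => 0
  | 1, 5, 2 => 0
  | 22, 0, 4 => 0
  | 1, 5, 5 => 0
  | 22, 2, 4 => 0
  | 1, 2, 3 => 0
  | 1, 3, 4 => 0
  | 22, 1, 5 => 0
  | 1, 4, 3 => 0
  | 22, 1, 2 => 0
  | 22, 3, 2 => 0
  | 22, 3, 5 => 0
  | 22, 5, 2 => 0
  | 22, 4, 4 => 0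
  | 22, 5, 5 => 0
  | 1, 1, 4 => 0
  | 1, 0, 2 => 0
  | 1, 0, 5 => 0
  | 22, 2, 0 => 1
  | 1, 0, 1 => 1
  | 1, 1, 0 => 1
  | 1, 2, 0 => 1
  | 22, 5, 0 => 1
  | 1, 3, 1 => 1
  | 1, 5, 0 => 1
  | 22, 4, 1 => 1
  | 1, 4, 1 => 1
  | 22, 0, 1 => 1
  | 22, 3, 1 => 1
  | 22, 1, 0 => 1
  | 1, 3, 0 => 2
  | 22, 4, 0 => 2
  | 1, 4, 0 => 2
  | 22, 3, 0 => 2
  | 1, 5, 1 => 3
  | 22, 5, 1 => 3
  | 22, 0, 0 => 3
  | 1, 0, 0 => 3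
  | 22, 1, 1 => 3
  | 1, 1, 1 => 3
  | 22, 2, 1 => 4
  | _, _, _ => 0

theorem rels_ok : rels.all (fun w => w.all (· < 24) && central w) = true := by decide +kernel

theorem cases_ok : ∀ a ∈ [1, 22], ∀ i < 6, ∀ j < 6, (a = 1 ∧ i = 2 ∧ j = 1) ∨
    (certIdx a i j < rels.length ∧ notCentral (subst a (qWord i) (qWord j) (rels.getD (certIdx a i j) [])) = true) := by
  decide +kernel

/-- The rows of the code as sums of rotated dodecads. -/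
def rowCert : List (List ℕ) := [[0, 3, 5, 7, 9, 10, 23],
  [3, 4, 8],
  [0, 3, 4, 7, 10, 23],
  [3, 4, 5, 6, 8, 10],
  [1, 3, 4, 5, 7, 9, 10, 23],
  [0, 1, 2, 4, 7, 8, 9, 10, 23],
  [0, 2, 3, 6, 7, 8, 10, 23],
  [4, 6, 7, 8, 9, 10],
  [0, 1, 6, 8, 10],
  [0, 2, 5, 6],
  [0, 1, 5, 6, 9, 10, 23],
  [0, 2, 5, 9, 10, 23]]

theorem rowCert_ok : rowCert.map (fun l => l.foldr (fun k m => dodMask k ^^^ m) 0) = Cfsg.Agent.Golay.rows ∧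
    rowCert.all (fun l => l.all (· < 24)) = true := by decide +kernel

/-- A word carrying the reference vector to a vector with three entries of absolute value three. -/
def shapeWord : List ℕ := [0, 1, 0, 1, 23]

/-- That vector. -/
def shapeVec : List ℤ := [1, 1, 1, 1, -1, 1, 1, 3, 1, 1, 3, 1, 3, -1, 1, 1, 1, 1, -1, 1, -1, -1, 1, 1]

theorem shape_ok : shapeWord.all (· < 24) = true ∧ wordList1 shapeWord (peakList 5) = shapeVec ∧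
    (Finset.univ.filter fun i => (toFun shapeVec i).natAbs = 3) = ({Cfsg.Agent.Golay.pt 7, Cfsg.Agent.Golay.pt 10, Cfsg.Agent.Golay.pt 12} : Finset Cfsg.GolayPt) ∧
    (∀ i, toFun shapeVec i ≠ 0) ∧ (toFun shapeVec none).natAbs ≠ 3 := by
  decide +kernel

end Cfsg.Agent.FGS4.ConwayOut.Co1
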