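import Cfsg.Agent.FGS4.ConwayOut.Abstract

/-! # Certificate for Co3 -/

set_option autoImplicit false
set_option maxRecDepth 200000

namespace Cfsg.Agent.FGS4.ConwayOut.Co3

open Cfsg Cfsg.Agent.Golay

/-- The matrix of the involution. -/
def mat : List (List ℤ) := [[-4, 0, 0, 0, 0, 2, 0, 2, 0, 0, 2, 2, 0, 0, 2, 2, 0, 2, 0, 2, 2, 2, 2, -2],
  [0, -4, 0, 0, 0, 2, 0, -2, 0, 0, -2, -2, 0, 0, 2, 2, 0, -2, 0, 2, 2, 2, -2, 2],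
  [0, 0, -4, 0, 0, 2, 0, 2, 0, 0, 2, -2, 0, 0, -2, 2, 0, 2, 0, 2, -2, -2, -2, 2],
  [0, 0, 0, -4, 0, -2, 0, -2, 0, 0, -2, 2, 0, 0, 2, 2, 0, 2, 0, 2, -2, -2, 2, 2],
  [0, 0, 0, 0, -4, -2, 0, 2, 0, 0, 2, 2, 0, 0, 2, 2, 0, -2, 0, -2, 2, -2, -2, 2],
  [2, 2, 2, -2, -2, 4, 2, 0, 2, 2, 0, 0, -2, -2, 0, 0, 2, 0, -2, 0, 0, 0, 0, 0],
  [0, 0, 0, 0, 0, 2, -4, 2, 0, 0, -2, 2, 0, 0, -2, 2, 0, -2, 0, -2, -2, 2, 2, 2],
  [2, -2, 2, -2, 2, 0, 2, 4, 2, -2, 0, 0, 2, 2, 0, 0, -2, 0, -2, 0, 0, 0, 0, 0],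
  [0, 0, 0, 0, 0, 2, 0, 2, -4, 0, -2, -2, 0, 0, 2, -2, 0, 2, 0, -2, 2, -2, 2, 2],
  [0, 0, 0, 0, 0, 2, 0, -2, 0, -4, 2, 2, 0, 0, -2, -2, 0, -2, 0, 2, 2, -2, 2, 2],
  [2, -2, 2, -2, 2, 0, -2, 0, -2, 2, 4, 0, 2, -2, 0, 0, 2, 0, 2, 0, 0, 0, 0, 0],
  [2, -2, -2, 2, 2, 0, 2, 0, -2, 2, 0, 4, -2, 2, 0, 0, 2, 0, -2, 0, 0, 0, 0, 0],
  [0, 0, 0, 0, 0, -2, 0, 2, 0, 0, 2, -2, -4, 0, 2, -2, 0, -2, 0, 2, -2, 2, 2, 2],
  [0, 0, 0, 0, 0, -2, 0, 2, 0, 0, -2, 2, 0, -4, -2, -2, 0, 2, 0, 2, 2, 2, -2, 2],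
  [2, 2, -2, 2, 2, 0, -2, 0, 2, -2, 0, 0, 2, -2, 4, 0, 2, 0, -2, 0, 0, 0, 0, 0],
  [2, 2, 2, 2, 2, 0, 2, 0, -2, -2, 0, 0, -2, -2, 0, 4, -2, 0, 2, 0, 0, 0, 0, 0],
  [0, 0, 0, 0, 0, 2, 0, -2, 0, 0, 2, 2, 0, 0, 2, -2, -4, 2, 0, -2, -2, 2, -2, 2],
  [2, -2, 2, 2, -2, 0, -2, 0, 2, -2, 0, 0, -2, 2, 0, 0, 2, 4, 2, 0, 0, 0, 0, 0],
  [0, 0, 0, 0, 0, -2, 0, -2, 0, 0, 2, -2, 0, 0, -2, 2, 0, 2, -4, -2, 2, 2, 2, 2],
  [2, 2, 2, 2, -2, 0, -2, 0, -2, 2, 0, 0, 2, 2, 0, 0, -2, 0, -2, 4, 0, 0, 0, 0],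
  [2, 2, -2, -2, 2, 0, -2, 0, 2, 2, 0, 0, -2, 2, 0, 0, -2, 0, 2, 0, 4, 0, 0, 0],
  [2, 2, -2, -2, -2, 0, 2, 0, -2, -2, 0, 0, 2, 2, 0, 0, 2, 0, 2, 0, 0, 4, 0, 0],
  [2, -2, -2, 2, -2, 0, 2, 0, 2, 2, 0, 0, 2, -2, 0, 0, -2, 0, 2, 0, 0, 0, 4, 0],
  [-2, 2, 2, 2, 2, 0, 2, 0, 2, 2, 0, 0, 2, 2, 0, 0, 2, 0, 2, 0, 0, 0, 0, 4]]

/-- The image of the first frame vector. -/
def img : List ℤ := [-2, 2, 2, 2, 2, 0, 2, 0, 2, 2, 0, 0, 2, 2, 0, 0, 2, 0, 2, 0, 0, 0, 0, 4]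

/-- The distinguishing words. -/
def cert : ℕ → ℕ → List ℕ
  | 1, 1 => [0, 0]
  | 1, 2 => [0, 0]
  | 1, 3 => [0, 0]
  | 1, 4 => [0, 0]
  | 1, 5 => [0, 0]
  | 1, 6 => [0, 0]
  | 1, 7 => [0, 0]
  | 1, 8 => [0, 0]
  | 1, 9 => [0, 0]
  | 1, 10 => [0, 0]
  | 22, 0 => [2, 0, 14, 0, 10, 0, 2, 0, 14, 0, 10, 0, 2, 0, 14, 0, 10, 0, 2, 0, 14, 0, 10, 0, 2, 0, 14, 0, 10, 0, 2, 0, 14, 0, 10, 0]
  | 22, 1 => [0, 0]
  | 22, 2 => [0, 0]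
  | 22, 3 => [0, 0]
  | 22, 4 => [0, 0]
  | 22, 5 => [0, 0]
  | 22, 6 => [0, 0]
  | 22, 7 => [0, 0]
  | 22, 8 => [0, 0]
  | 22, 9 => [0, 0]
  | 22, 10 => [0, 0]
  | _, _ => []

/-- The distinct words. -/
def certWords : List (List ℕ) := [[0, 0], [2, 0, 14, 0, 10, 0, 2, 0, 14, 0, 10, 0, 2, 0, 14, 0, 10, 0, 2, 0, 14, 0, 10, 0, 2, 0, 14, 0, 10, 0, 2, 0, 14, 0, 10, 0]]

theorem certWords_ok : certWords.all (wordTriv mat) = true := by decide +kernel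

theorem mat_ok : matOK mat = true := by decide +kernel

theorem fix_ok : matList mat (peakList 5) = peakList 5 := by decide +kernel

theorem img_ok : matList mat (e8List 23) = img ∧ img ≠ e8List 23 := by decide +kernel

theorem sols_ok : solsOK (5) img = true := by decide +kernel

theorem rel_ok : wordTriv mat [0, 24, 0, 23 + (11 - 1)] = true ∧ wordTriv mat [24, 1, 33, 21] = true := by
  decide +kernel

theorem cert_ok : ∀ j < 11, ∀ a ∈ [1, 22], (a = 1 ∧ j = 0) ∨ ((cert a j).all (· < 23) = true ∧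
    wordTriv mat (cert a j) = true ∧
    wordMoves mat ((cert a j).flatMap fun k => if k = 0 then [0, 23 + j] else [a * k % 23]) = true) := by
  have h : ∀ j < 11, ∀ a ∈ [1, 22], (a = 1 ∧ j = 0) ∨ ((cert a j).all (· < 23) = true ∧
      cert a j ∈ certWords ∧
      wordMoves mat ((cert a j).flatMap fun k => if k = 0 then [0, 23 + j] else [a * k % 23]) = true) := by
    decide +kernel
  intro j hj a ha
  exact (h j hj a ha).imp_right fun ⟨h1, h2, h3⟩ => ⟨h1, List.all_eq_true.1 certWords_ok _ h2, h3⟩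

/-- The certificate. -/
def data : Data (5) := ⟨mat, img, 1, cert, mat_ok, fix_ok, img_ok.1, sols_ok, img_ok.2, by norm_num, rel_ok.1, rel_ok.2, cert_ok⟩

/-- A word fixing the first frame vector. -/
def stabWord : List ℕ := [0, 22, 0, 16, 0, 4, 0, 0, 0, 10, 0, 1, 0]

theorem stab_ok : stabWord.all (· < 57) = true ∧ wordList mat stabWord (e8List 23) = e8List 23 ∧
    wordList mat stabWord (e8List 0) = e8List 9 ∧ wordList mat stabWord (e8List 1) = e8List 2 ∧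
    wordList mat stabWord (e8List 2) = e8List 11 := by decide +kernel

/-- The root of the tree. -/
def root : List ℤ := [2, 2, 2, 2, 0, 2, 0, 2, 2, 0, 0, 2, 2, 0, 0, 2, 0, 2, 0, 0, 0, 0, -2, 4]

/-- A piece of the orbit. -/
def tree : List Entry := [
  (849610510236089172236350298694175314, 0, 0, 0, 0),
  (849610510238509384986761132168006226, 0, 10, 0, 1)]

theorem root_ok : rotList 22 (matList mat (e8List 23)) = root ∧ leechTest (toFun root) = true := by decide +kernel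

theorem tree_len : tree.length = 2 := by decide +kernel

theorem tree_ok : orbitOK mat tree root = true := by decide +kernel

end Cfsg.Agent.FGS4.ConwayOut.Co3
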