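import Cfsg.Agent.FGS4.ConwayOut.Contain
import Cfsg.Agent.FGS4.ConwayOut.Co3Data

/-!
# The outer automorphism group of Co₃
-/

set_option autoImplicit false
set_option maxRecDepth 20000

namespace Cfsg.Agent.FGS4.ConwayOut.Co3

open Cfsg Cfsg.Agent Cfsg.Agent.Golay
open scoped Pointwise

theorem divisors_lists : (∀ i < 9, 8 % i = 0 → i ∈ [1, 2, 4, 8]) ∧
    (∀ j < 244, 243 % j = 0 → j ∈ [1, 3, 9, 27, 81, 243]) ∧ ∀ l < 26, 25 % l = 0 → l ∈ [1, 5, 25] := by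
  decide +kernel

theorem arith : ∀ i ∈ [1, 2, 4, 8], ∀ j ∈ [1, 3, 9, 27, 81, 243], ∀ l ∈ [1, 5, 25],
    i * (j * l) * 10200960 / 253 % 23 = 1 →
    (∃ n ∈ [22, 110], i * (j * l) * 10200960 % n = 0 ∧ i * (j * l) * 10200960 / n % 11 = 1) →
    46 ≤ i * (j * l) → i * (j * l) * 10200960 = 495766656000 := by decide +kernel

theorem PG_card : Nat.card (PG 5 tgt_facts.2.1) = 495766656000 := stab48_card tgt_facts.2.2.2.2.2.1

theorem gen (H : Subgroup ↥Co0) (hH : H ≤ PG 5 tgt_facts.2.1) (hx : xEl ∈ H) (hy : yEl ∈ H)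
    (hel : data.el ∈ H) : H = PG 5 tgt_facts.2.1 := by
  haveI := co0_finite
  obtain ⟨hd, -, hmod, n, hn, hnd, hn11⟩ := gen_facts data (Or.inl (by norm_num)) PG_card (by norm_num)
    (by norm_num) hH hx hy hel
  obtain ⟨s0, s1, s2, s3, s4⟩ := stab_ok
  have hcard := card_eq_orbit_mul data (Or.inl (by norm_num)) hH hx hy hel stabWord s0 s1 s2 s3 s4
    (by norm_num) (by norm_num)
  have hge := orbit_frame_bound data hx hel (R := tree) (by norm_num) root_ok.1 (leechTest_sound root_ok.2) tree_ok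
  rw [tree_len] at hge
  obtain ⟨o, ho⟩ : ∃ o, (MulAction.orbit H (e8 none)).ncard = o := ⟨_, rfl⟩
  rw [ho] at hcard hge
  have ho' : o ∣ 8 * (243 * 25) := (Nat.mul_dvd_mul_iff_right (by norm_num : 0 < 10200960)).1
    (by
      rw [hcard] at hd
      norm_num
      exact hd)
  obtain ⟨i, j, l, hi, hj, hl, rfl⟩ := dvd_triple ho'
  obtain ⟨d1, d2, d3⟩ := divisors_lists
  refine Subgroup.eq_of_le_of_card_ge hH (le_of_eq ?_)
  rw [PG_card, hcard]
  exact (arith i (d1 _ (Nat.lt_succ_of_le (Nat.le_of_dvd (by norm_num) hi)) (Nat.mod_eq_zero_of_dvd hi))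
    j (d2 _ (Nat.lt_succ_of_le (Nat.le_of_dvd (by norm_num) hj)) (Nat.mod_eq_zero_of_dvd hj))
    l (d3 _ (Nat.lt_succ_of_le (Nat.le_of_dvd (by norm_num) hl)) (Nat.mod_eq_zero_of_dvd hl))
    (by rw [← hcard]; exact hmod) ⟨n, hn, by rw [← hcard]; exact Nat.mod_eq_zero_of_dvd hnd, by rw [← hcard]; exact hn11⟩ hge).symm

theorem card_out_Co3 : Nat.card (Cfsg.Out ↥Spor.Co3) = 1 := by
  refine (card_out_stab (v := Spor.leechV) (w := ⟨_, tgt_facts.2.1⟩) (n := 48) (Or.inr (Or.inl rfl))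
    (by decide +kernel) tgt_facts.2.2.2.2.2.1).trans ?_
  exact card_out data (Or.inl (by norm_num)) PG_card (by norm_num) gen

end Cfsg.Agent.FGS4.ConwayOut.Co3
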