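import Cfsg.Agent.FGS4.ConwayOut.Co1Words
import Cfsg.Agent.FGS4.ConwayOut.Co3Main

/-!
# Centralisers in Co₁ of elements of order 11 and 23
-/

set_option autoImplicit false
set_option maxRecDepth 20000

namespace Cfsg.Agent.FGS4.ConwayOut.Co1

open Cfsg Cfsg.Agent Cfsg.Agent.Golay
open scoped Pointwise

/-- The vectors that occur. -/
def candList : List (List ℤ) :=
  let l := [e8List 23, matList Co3.mat (e8List 23), epsList (matList Co3.mat (e8List 23)),
    e8List 0, matList Co3.mat (e8List 0), epsList (matList Co3.mat (e8List 0))]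
  l ++ l.map negList

/-- The check on the fixed vectors. -/
def sols1OK : Bool :=
  (List.range 17).all fun a => (List.range 17).all fun b => (List.range 5).all fun c => (List.range 5).all fun d =>
    let a' : ℤ := (a : ℤ) - 8
    let b' : ℤ := (b : ℤ) - 8
    let c' : ℤ := (c : ℤ) - 2
    let d' : ℤ := (d : ℤ) - 2
    !(decide (a' * a' + b' * b' + 11 * (c' * c') + 11 * (d' * d') = 64)) ||
      !(leechTest (toFun (clsList a' b' c' d'))) || candList.contains (clsList a' b' c' d')

theorem sols1_ok : sols1OK = true := by decide +kernel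

theorem cls_const {α : Type*} {f : GolayPt → α} (h : ∀ i, f (permFun mul2Code i) = f i) (i : GolayPt) :
    f i = f none ∨ f i = f (pt 0) ∨ f i = f (pt 1) ∨ f i = f (pt 5) := by
  have hit : ∀ k i, f ((permFun mul2Code)^[k] i) = f i := fun k => by
    induction k with
    | zero => intro i; rfl
    | succ k ih => intro i; rw [Function.iterate_succ_apply', h, ih]
  have hall : ∀ i : GolayPt, i = none ∨ i = pt 0 ∨
      (∃ k < 11, (permFun mul2Code)^[k] i = pt 1) ∨ ∃ k < 11, (permFun mul2Code)^[k] i = pt 5 := by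
    decide +kernel
  rcases hall i with e | e | ⟨k, -, e⟩ | ⟨k, -, e⟩
  · exact Or.inl (by rw [e])
  · exact Or.inr (Or.inl (by rw [e]))
  · exact Or.inr (Or.inr (Or.inl (by rw [← e, hit])))
  · exact Or.inr (Or.inr (Or.inr (by rw [← e, hit])))

theorem fixed_six {v : ↥leechLattice} (hy : yEl • v = v) (hn : sqNorm (v : GolayPt → ℤ) = 64) :
    ∃ l ∈ candList, (v : GolayPt → ℤ) = toFun l := by
  set f : GolayPt → ℤ := (v : GolayPt → ℤ) with hf
  have hyk : ∀ k : ℕ, yEl ^ k • v = v := fun k => by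
    induction k with
    | zero => rw [pow_zero, one_smul]
    | succ k ih => rw [pow_succ, mul_smul, hy, ih]
  have hinv : ∀ k < 34, ∀ i, f (pt (mulSrc k (idx i))) = f i := fun k hk i => by
    have hmem : toFun (toList f) ∈ leechLattice := by rw [toFun_toList]; exact v.2
    have e := congrFun (yEl_smul k hk (toList f) hmem) i
    rw [show (⟨toFun (toList f), hmem⟩ : ↥leechLattice) = v from Subtype.ext (toFun_toList f), hyk k] at e
    have hlt : mulSrc k (idx i) < 24 := by
      have := idx_lt i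
      unfold mulSrc
      split_ifs <;> omega
    rw [← hf] at e
    rw [e]
    simp [toFun, mulList, toList, idx_lt i, hlt]
  have hfc : f = toFun (clsList (f none) (f (pt 0)) (f (pt 1)) (f (pt 5))) := funext fun i => by
    rw [cls2_list]
    rcases cls2_orbits i with rfl | rfl | ⟨k, hk, e, ec⟩ | ⟨k, hk, e, ec⟩
    · simp [cls2, idx]
    · simp [cls2, idx_pt (show 0 < 24 by norm_num)]
    · rw [ec, ← hinv k (by omega) i, e]; simp
    · rw [ec, ← hinv k (by omega) i, e]; simp
  obtain ⟨a, ha⟩ : ∃ a, f none = a := ⟨_, rfl⟩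
  obtain ⟨b, hb⟩ : ∃ b, f (pt 0) = b := ⟨_, rfl⟩
  obtain ⟨c, hc⟩ : ∃ c, f (pt 1) = c := ⟨_, rfl⟩
  obtain ⟨d, hd⟩ : ∃ d, f (pt 5) = d := ⟨_, rfl⟩
  rw [ha, hb, hc, hd] at hfc
  have hsq : a * a + b * b + 11 * (c * c) + 11 * (d * d) = 64 := by
    set F : ℕ → ℤ := fun j => (if j = 0 then a else if j = 1 then b else if j = 2 then c else d) ^ 2 with hF
    have hmaps : ∀ i ∈ (Finset.univ : Finset GolayPt), cls2 i ∈ Finset.range 4 :=
      fun i _ => Finset.mem_range.2 (cls2_lt i)
    have hterm : ∀ i, f i ^ 2 = F (cls2 i) := fun i => by rw [hfc, cls2_list]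
    have hone : ∀ j < 4, ∑ i ∈ Finset.univ.filter (fun i => cls2 i = j), F (cls2 i) =
        (if j < 2 then 1 else 11 : ℕ) * F j := fun j hj => by
      rw [Finset.sum_congr rfl fun i hi => by rw [(Finset.mem_filter.1 hi).2], Finset.sum_const,
        cls2_counts j hj, nsmul_eq_mul]
    rw [← hn, sqNorm, Finset.sum_congr rfl fun i _ => hterm i, ← Finset.sum_fiberwise_of_maps_to hmaps]
    simp only [Finset.sum_range_succ, Finset.sum_range_zero, zero_add, hone 0 (by norm_num),
      hone 1 (by norm_num), hone 2 (by norm_num), hone 3 (by norm_num)]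
    simp [hF, sq]
  have ba : -8 ≤ a ∧ a ≤ 8 := by constructor <;> nlinarith [sq_nonneg b, sq_nonneg c, sq_nonneg d]
  have bb : -8 ≤ b ∧ b ≤ 8 := by constructor <;> nlinarith [sq_nonneg a, sq_nonneg c, sq_nonneg d]
  have bc : -2 ≤ c ∧ c ≤ 2 := by constructor <;> nlinarith [sq_nonneg a, sq_nonneg b, sq_nonneg d]
  have bd : -2 ≤ d ∧ d ≤ 2 := by constructor <;> nlinarith [sq_nonneg a, sq_nonneg b, sq_nonneg c]
  have hs := sols1_ok
  simp only [sols1OK, List.all_eq_true, List.mem_range, Bool.or_eq_true, Bool.not_eq_true',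
    decide_eq_false_iff_not, List.contains_iff_mem] at hs
  have h := hs (a + 8).toNat (by omega) (b + 8).toNat (by omega) (c + 2).toNat (by omega) (d + 2).toNat (by omega)
  rw [Int.toNat_of_nonneg (by omega), Int.toNat_of_nonneg (by omega), Int.toNat_of_nonneg (by omega),
    Int.toNat_of_nonneg (by omega), add_sub_cancel_right, add_sub_cancel_right, add_sub_cancel_right,
    add_sub_cancel_right] at h
  rcases h with (h | h) | h
  · exact absurd hsq h
  · have h2 := leechTest_complete v.2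
    rw [← hf, hfc] at h2
    exact absurd (h ▸ h2 : false = true) Bool.false_ne_true
  · exact ⟨_, h, hfc⟩

theorem negEl_comm (g : ↥Co0) : negEl * g = g * negEl := (Subgroup.mem_center_iff.1 negEl_mem_center g).symm

theorem negEl_sq : negEl * negEl = 1 := co0_ext fun i => by
  rw [mul_smul, negEl_apply, negEl_apply, neg_neg, one_smul]

theorem negEl_ne_one : negEl ≠ 1 := fun e => by
  have h := congrArg (fun g : ↥Co0 => ((g • e8 none : ↥leechLattice) : GolayPt → ℤ) none) e
  simp [negEl_apply, e8] at h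

theorem center_cases {g : ↥Co0} (h : g ∈ Subgroup.center ↥Co0) : g = 1 ∨ g = negEl := by
  haveI := co0_finite
  have heq : Subgroup.zpowers negEl = Subgroup.center ↥Co0 := by
    refine Subgroup.eq_of_le_of_card_ge (Subgroup.zpowers_le.2 negEl_mem_center) (le_of_eq ?_)
    rw [co0_center_card, Nat.card_zpowers,
      orderOf_eq_prime (by rw [sq]; exact negEl_sq) negEl_ne_one]
  rw [← heq, ← mem_powers_iff_mem_zpowers, Submonoid.mem_powers_iff] at h
  obtain ⟨n, rfl⟩ := h
  rcases Nat.even_or_odd n with ⟨m, rfl⟩ | ⟨m, rfl⟩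
  · exact Or.inl (by rw [← two_mul, pow_mul, sq, negEl_sq, one_pow])
  · exact Or.inr (by rw [pow_succ, pow_mul, sq, negEl_sq, one_pow, one_mul])

/-- An element commuting up to sign with an element of odd order commutes with it. -/
theorem commute_of_sign {g u : ↥Co0} {n : ℕ} (hn : Odd n) (hu : u ^ n = 1)
    (h : g * u * g⁻¹ = u ∨ g * u * g⁻¹ = negEl * u) : g * u = u * g := by
  rcases h with h | h
  · exact mul_inv_eq_iff_eq_mul.1 h
  exfalso
  have h1 : (g * u * g⁻¹) ^ n = 1 := by rw [conj_pow, hu, mul_one, mul_inv_cancel]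
  rw [h, (show Commute negEl u from negEl_comm u).mul_pow, hu, mul_one] at h1
  obtain ⟨m, rfl⟩ := hn
  rw [pow_succ, pow_mul, sq, negEl_sq, one_pow, one_mul] at h1
  exact negEl_ne_one h1

theorem el_comm : matEl Co3.mat Co3.mat_ok * yEl = yEl * matEl Co3.mat Co3.mat_ok := by
  have h : matEl Co3.mat Co3.mat_ok * yEl * (matEl Co3.mat Co3.mat_ok)⁻¹ = yEl ^ (1 : ℕ) := Co3.data.el_y
  rw [pow_one] at h
  exact mul_inv_eq_iff_eq_mul.1 h

theorem dod_facts : (∀ i : GolayPt, dodNat.testBit (idx (permFun mul2Code i)) = dodNat.testBit (idx i)) ∧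
    dodNat.testBit 23 = false := by decide +kernel

theorem smul_finset_eq {σ : Equiv.Perm GolayPt} {c : Finset GolayPt} (h : ∀ i, σ i ∈ c ↔ i ∈ c) : σ • c = c := by
  ext i
  rw [← Finset.inv_smul_mem_iff, Equiv.Perm.smul_def, ← h]
  simp

theorem eps_comm : epsEl * yEl = yEl * epsEl := by
  have hc : permOf mul2Code • bset dodNat = bset dodNat := smul_finset_eq fun i => by
    rw [mem_bset, mem_bset, permOf_apply (permOK_of_isAut mul2_aut.1), dod_facts.1]
  rw [epsEl, yEl, monoEl_mul, monoEl_mul]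
  refine monoEl_congr (by rw [one_mul, mul_one]) ?_
  rw [hc, one_smul]
  ext i
  simp [Finset.mem_symmDiff]

theorem eps_fix : epsEl • e8 none = e8 none :=
  (monoEl_e8 1 (one_mem _) _ (bset_mem_supports dodNat_inC)).2 ⟨rfl, fun h => by
    rw [mem_bset] at h
    exact absurd (h.symm.trans dod_facts.2) (by simp)⟩

/-- The inversion of the projective line as a monomial element. -/
noncomputable def pEl : ↥Co0 := monoEl projInv projInv_mem ∅ empty_mem_supports

theorem pEl_facts : projInv none = pt 0 ∧ ∀ i, permFun mul2Code (projInv (permFun mul2Code i)) = projInv i := by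
  decide +kernel

theorem pEl_e8 : pEl • e8 none = e8 (pt 0) := Subtype.ext (by
  rw [pEl, monoEl_apply]
  show signedPerm projInv ∅ (Pi.single none 8) = (Pi.single (pt 0) 8 : GolayPt → ℤ)
  rw [signedPerm_single, pEl_facts.1]
  simp [sgnOf])

theorem pEl_y : yEl * pEl * yEl = pEl := by
  rw [yEl, pEl, monoEl_mul, monoEl_mul]
  refine monoEl_congr (Equiv.ext fun i => ?_) (by simp)
  rw [Equiv.Perm.mul_apply, Equiv.Perm.mul_apply, permOf_apply (permOK_of_isAut mul2_aut.1),
    permOf_apply (permOK_of_isAut mul2_aut.1), pEl_facts.2]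

theorem s23_cases {σ : ↥S23} (h : σ * y23 * σ⁻¹ = y23 ∨ σ * y23 * σ⁻¹ = y23⁻¹) :
    σ * y23 * σ⁻¹ = y23 ∧ σ ∈ Subgroup.zpowers y23 := by
  haveI := co0_finite
  have hN : σ ∈ Subgroup.normalizer ((Subgroup.zpowers y23 : Subgroup ↥S23) : Set ↥S23) := by
    refine Subgroup.mem_normalizer_iff_map_conj_eq.2 (Subgroup.eq_of_le_of_card_ge ?_ ?_)
    · rw [MonoidHom.map_zpowers]
      refine Subgroup.zpowers_le.2 ?_
      show σ * y23 * σ⁻¹ ∈ _
      rcases h with h | h <;> rw [h]
      · exact Subgroup.mem_zpowers _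
      · exact inv_mem (Subgroup.mem_zpowers _)
    · rw [Subgroup.card_map_of_injective (MulAut.conj _).injective]
  obtain ⟨m, hm22, hmσ⟩ := exists_M22 hN
  have h55 : σ ^ 55 = 1 := by
    refine Subtype.ext ?_
    have h' : orderOf m ∣ 55 := Subgroup.orderOf_mk (H := Subgroup.normalizer
      ((Subgroup.zpowers y22 : Subgroup Spor.M22) : Set Spor.M22)) m hm22 ▸ normalizer_y22 ▸ orderOf_dvd_natCard _
    rw [SubmonoidClass.coe_pow, ← hmσ, ← SubmonoidClass.coe_pow, orderOf_dvd_iff_pow_eq_one.1 h']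
    rfl
  have hsq : Commute (σ * σ) y23 := by
    show σ * σ * y23 = y23 * (σ * σ)
    refine mul_inv_eq_iff_eq_mul.1 ?_
    calc σ * σ * y23 * (σ * σ)⁻¹ = σ * (σ * y23 * σ⁻¹) * σ⁻¹ := by group
      _ = y23 := by
        rcases h with h | h
        · rw [h, h]
        · rw [h, ← conj_inv, h, inv_inv]
  have hcomm : Commute σ y23 := by
    have h28 : (σ * σ) ^ 28 = σ := by
      rw [← pow_two, ← pow_mul, show 2 * 28 = 55 + 1 by norm_num, pow_succ, h55, one_mul]
    exact h28 ▸ hsq.pow_left 28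
  refine ⟨mul_inv_eq_iff_eq_mul.2 hcomm.eq, ?_⟩
  have hmc : Commute m y22 := Subtype.ext (by
    rw [Subgroup.coe_mul, Subgroup.coe_mul, hmσ]
    exact congrArg (fun u : ↥S23 => (u : Equiv.Perm GolayPt)) hcomm.eq)
  obtain ⟨n, hn⟩ := Subgroup.mem_zpowers_iff.1 (centralizer_y22 hm22 hmc)
  exact ⟨n, Subtype.ext (by rw [← hmσ, ← hn, SubgroupClass.coe_zpow, SubgroupClass.coe_zpow]; rfl)⟩

theorem inv_code : ∀ b0 b1 b2 : Bool, inC (((List.range 23).map fun i =>
      if (if i = 0 then b0 else if i ^ 11 % 23 = 1 then b1 else b2) then 2 ^ i else 0).sum) = true →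
    (b0 = false ∧ b1 = false ∧ b2 = false) ∨ (b0 = true ∧ b1 = true ∧ b2 = false) := by decide +kernel

theorem code_fixed {c : Finset GolayPt} (hc : c ∈ supports (golayCode : Set (GolayPt → ZMod 2)))
    (hn : none ∉ c) (hy : permOf mul2Code • c = c) : c = ∅ ∨ c = bset dodNat := by
  have hok := permOK_of_isAut mul2_aut.1
  have hmem : ∀ i, decide (permFun mul2Code i ∈ c) = decide (i ∈ c) := fun i => decide_eq_decide.2 (by
    conv_lhs => rw [← hy, ← permOf_apply hok, ← Equiv.Perm.smul_def, Finset.smul_mem_smul_finset_iff])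
  have hor : ∀ k i, decide ((permFun mul2Code)^[k] i ∈ c) = decide (i ∈ c) := fun k => by
    induction k with
    | zero => intro i; rfl
    | succ k ih => intro i; rw [Function.iterate_succ_apply', hmem, ih]
  have hpts : ∀ i : GolayPt, i = none ∨ (idx i < 23 ∧ ((idx i = 0 ∧ i = pt 0) ∨
      (idx i ≠ 0 ∧ idx i ^ 11 % 23 = 1 ∧ ∃ k < 11, (permFun mul2Code)^[k] i = pt 1) ∨
      (idx i ≠ 0 ∧ idx i ^ 11 % 23 ≠ 1 ∧ ∃ k < 11, (permFun mul2Code)^[k] i = pt 5))) := by decide +kernel
  set b0 := decide (pt 0 ∈ c)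
  set b1 := decide (pt 1 ∈ c)
  set b2 := decide (pt 5 ∈ c)
  have hval : ∀ i, decide (i ∈ c) = if idx i = 23 then false else if idx i = 0 then b0 else
      if idx i ^ 11 % 23 = 1 then b1 else b2 := fun i => by
    rcases hpts i with rfl | ⟨h23, ⟨h0, rfl⟩ | ⟨h0, h1, k, -, e⟩ | ⟨h0, h1, k, -, e⟩⟩
    · rw [if_pos (show idx none = 23 from rfl)]; simpa using hn
    · rw [if_neg (by omega), if_pos h0]
    · rw [if_neg (by omega), if_neg h0, if_pos h1, ← hor k, e]
    · rw [if_neg (by omega), if_neg h0, if_neg h1, ← hor k, e]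
  have hmask : ∀ b0 b1 b2 : Bool, ∀ i : GolayPt, (((List.range 23).map fun i =>
      if (if i = 0 then b0 else if i ^ 11 % 23 = 1 then b1 else b2) then 2 ^ i else 0).sum).testBit (idx i) =
      (if idx i = 23 then false else if idx i = 0 then b0 else if idx i ^ 11 % 23 = 1 then b1 else b2) := by
    decide +kernel
  have e : c = bset (((List.range 23).map fun i =>
      if (if i = 0 then b0 else if i ^ 11 % 23 = 1 then b1 else b2) then 2 ^ i else 0).sum) := by
    ext i
    rw [mem_bset, hmask, ← hval i, decide_eq_true_eq]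
  have hlt : ∀ b0 b1 b2 : Bool, (((List.range 23).map fun i =>
      if (if i = 0 then b0 else if i ^ 11 % 23 = 1 then b1 else b2) then 2 ^ i else 0).sum) < 2 ^ 24 := by
    decide +kernel
  have hin := mem_supports_iff.1 hc
  rw [e, mask_bset (hlt _ _ _)] at hin
  have hD : (((List.range 23).map fun i =>
      if (if i = 0 then true else if i ^ 11 % 23 = 1 then true else false) then 2 ^ i else 0).sum) = dodNat := by
    decide +kernel
  rcases inv_code _ _ _ hin with ⟨h0, h1, h2⟩ | ⟨h0, h1, h2⟩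
  · refine Or.inl ?_
    rw [e, h0, h1, h2]
    simp [bset_zero]
  · exact Or.inr (by rw [e, h0, h1, h2, hD])

theorem stab_cent {m : ↥Co0} (he : m • e8 none = e8 none) (hm : m * yEl = yEl * m ∨ m * yEl * m⁻¹ = yEl⁻¹) :
    m * yEl = yEl * m ∧ ∃ n : ℤ, m = yEl ^ n ∨ m = yEl ^ n * epsEl := by
  obtain ⟨σ, hσ, c, hc, rfl⟩ := exists_mono_of_crossFix (crossFix_of_fix rfl he)
  obtain ⟨hs, hnc⟩ := (monoEl_e8 σ hσ c hc).1 he
  let s : ↥S23 := ⟨σ, hσ, hs⟩
  have key : ∀ (τ : Equiv.Perm GolayPt) (hτ : τ ∈ M24) (d : Finset GolayPt)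
      (hd : d ∈ supports (golayCode : Set (GolayPt → ZMod 2))),
      monoEl σ hσ c hc * yEl = monoEl τ hτ d hd * monoEl σ hσ c hc → d = ∅ →
      σ * permOf mul2Code = τ * σ ∧ τ • c = c := by
    intro τ hτ d hd e hd0
    subst hd0
    rw [yEl, monoEl_mul, monoEl_mul] at e
    obtain ⟨e1, e2⟩ := monoEl_injective e
    refine ⟨e1, ?_⟩
    ext i
    have := Finset.ext_iff.1 e2 i
    simp [Finset.mem_symmDiff] at this
    exact this.symm
  rcases hm with hm | hm
  · obtain ⟨e1, e2⟩ := key _ (permOf_mem_M24 mul2_aut.1) ∅ empty_mem_supports hm rfl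
    obtain ⟨-, n, hn⟩ := s23_cases (σ := s) (Or.inl (mul_inv_eq_iff_eq_mul.2 (Subtype.ext e1)))
    refine ⟨hm, n, ?_⟩
    have hy : yEl ^ n = monoEl σ hσ ∅ empty_mem_supports := by
      rw [← emb23_y, ← map_zpow, show y23 ^ n = s from hn]; rfl
    have hsc : σ • c = c := by
      have hσn : σ = (y23 ^ n : ↥S23).1 := congrArg Subtype.val hn.symm
      rw [hσn, SubgroupClass.coe_zpow]
      exact MulAction.mem_stabilizer_iff.1 (Subgroup.zpow_mem _ (MulAction.mem_stabilizer_iff.2 e2) n)
    rcases code_fixed hc hnc e2 with rfl | rfl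
    · exact Or.inl hy.symm
    · refine Or.inr ?_
      rw [hy, epsEl, monoEl_mul]
      refine monoEl_congr (by rw [mul_one]) ?_
      rw [hsc]
      ext i
      simp [Finset.mem_symmDiff]
  · exfalso
    have hy10 : yEl⁻¹ = yEl ^ 10 := inv_eq_of_mul_eq_one_right (by
      rw [← pow_succ']; exact orderOf_dvd_iff_pow_eq_one.1 (by rw [orderOf_yEl]))
    have hm' := mul_inv_eq_iff_eq_mul.1 hm
    rw [hy10, show yEl ^ 10 = emb23 (y23 ^ 10) from by rw [map_pow, emb23_y]] at hm'
    obtain ⟨e1, -⟩ := key _ (y23 ^ 10).2.1 ∅ empty_mem_supports hm' rfl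
    have hy23 : y23⁻¹ = y23 ^ 10 := emb23_injective (by rw [map_inv, map_pow, emb23_y, hy10])
    obtain ⟨h1, -⟩ := s23_cases (σ := s) (Or.inr (by rw [hy23]; exact mul_inv_eq_iff_eq_mul.2 (Subtype.ext e1)))
    have h2 : s * y23 * s⁻¹ = y23 ^ 10 := mul_inv_eq_iff_eq_mul.2 (Subtype.ext e1)
    have h3 : yEl ^ 9 = 1 := by
      have := congrArg emb23 (h1.symm.trans h2)
      rw [map_pow, emb23_y] at this
      exact mul_eq_left.1 ((show yEl * yEl ^ 9 = yEl ^ 10 from (pow_succ' yEl 9).symm).trans this.symm)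
    have := orderOf_dvd_of_pow_eq_one h3
    rw [orderOf_yEl] at this
    norm_num at this

theorem centralizer_y1 {g : ↥Co0} (hg : g * yEl = yEl * g) :
    ∃ i < 6, ∃ n : ℤ, g = word1 (qWord i) * yEl ^ n ∨ g = negEl * (word1 (qWord i) * yEl ^ n) := by
  have hfix : yEl • g • e8 none = g • e8 none := by rw [← mul_smul, ← hg, mul_smul, yEl_fix]
  obtain ⟨l, hl, hlv⟩ := fixed_six hfix ((co0_norm g (e8 none)).trans (sqNorm_e8 none))
  set tt := matEl Co3.mat Co3.mat_ok with htt
  have hr : ∀ r ∈ [(1 : ↥Co0), tt, epsEl * tt], r * yEl = yEl * r := by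
    intro r hr
    simp only [List.mem_cons, List.not_mem_nil, or_false] at hr
    rcases hr with rfl | rfl | rfl
    · rw [one_mul, mul_one]
    · exact el_comm
    · rw [mul_assoc, el_comm, ← mul_assoc, eps_comm, mul_assoc]
  have hv : ∀ j : ℕ, j < 24 → ((tt • e8 (pt j) : ↥leechLattice) : GolayPt → ℤ) = toFun (matList Co3.mat (e8List j)) ∧
      (((epsEl * tt) • e8 (pt j) : ↥leechLattice) : GolayPt → ℤ) = toFun (epsList (matList Co3.mat (e8List j))) := by
    intro j hj
    have h1 : ((tt • e8 (pt j) : ↥leechLattice) : GolayPt → ℤ) = toFun (matList Co3.mat (e8List j)) := by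
      rw [htt, matEl_apply, ← e8_list j hj, matFun_toFun]
    refine ⟨h1, ?_⟩
    have hm : toFun (matList Co3.mat (e8List j)) ∈ leechLattice := h1 ▸ Subtype.prop _
    rw [mul_smul, show tt • e8 (pt j) = ⟨_, hm⟩ from Subtype.ext h1, epsEl_smul]
  have hneg : ∀ (v : ↥leechLattice) (l : List ℤ), (v : GolayPt → ℤ) = toFun l →
      ((negEl • v : ↥leechLattice) : GolayPt → ℤ) = toFun (negList l) := by
    intro v l h
    rw [negEl_apply, AddSubgroup.coe_neg, h]
    funext i
    simp [toFun, negList, List.getD_eq_getElem?_getD]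
    cases l[idx i]? <;> simp
  obtain ⟨s, hs, r, hrm, j, hj, heq⟩ : ∃ s ∈ [(1 : ↥Co0), negEl], ∃ r ∈ [(1 : ↥Co0), tt, epsEl * tt],
      ∃ j ∈ [23, 0], g • e8 none = (s * r) • e8 (pt j) := by
    have h1 : ∀ j < 24, (((1 : ↥Co0) • e8 (pt j) : ↥leechLattice) : GolayPt → ℤ) = toFun (e8List j) := fun j hj => by
      rw [one_smul, e8_list j hj]
    have k0 : (0 : ℕ) < 24 := by norm_num
    have k23 : (23 : ℕ) < 24 := by norm_num
    simp only [candList, List.cons_append, List.nil_append, List.map_cons, List.map_nil, List.mem_cons,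
      List.not_mem_nil, or_false] at hl
    rcases hl with rfl | rfl | rfl | rfl | rfl | rfl | rfl | rfl | rfl | rfl | rfl | rfl
    · exact ⟨1, by simp, 1, by simp, 23, by simp, Subtype.ext (hlv.trans (by rw [one_mul, h1 _ k23]))⟩
    · exact ⟨1, by simp, tt, by simp, 23, by simp, Subtype.ext (hlv.trans (by rw [one_mul, (hv _ k23).1]))⟩
    · exact ⟨1, by simp, epsEl * tt, by simp, 23, by simp, Subtype.ext (hlv.trans (by rw [one_mul, (hv _ k23).2]))⟩
    · exact ⟨1, by simp, 1, by simp, 0, by simp, Subtype.ext (hlv.trans (by rw [one_mul, h1 _ k0]))⟩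
    · exact ⟨1, by simp, tt, by simp, 0, by simp, Subtype.ext (hlv.trans (by rw [one_mul, (hv _ k0).1]))⟩
    · exact ⟨1, by simp, epsEl * tt, by simp, 0, by simp, Subtype.ext (hlv.trans (by rw [one_mul, (hv _ k0).2]))⟩
    · exact ⟨negEl, by simp, 1, by simp, 23, by simp,
        Subtype.ext (hlv.trans (by rw [mul_smul, hneg _ _ (h1 _ k23)]))⟩
    · exact ⟨negEl, by simp, tt, by simp, 23, by simp,
        Subtype.ext (hlv.trans (by rw [mul_smul, hneg _ _ (hv _ k23).1]))⟩
    · exact ⟨negEl, by simp, epsEl * tt, by simp, 23, by simp,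
        Subtype.ext (hlv.trans (by rw [mul_smul, hneg _ _ (hv _ k23).2]))⟩
    · exact ⟨negEl, by simp, 1, by simp, 0, by simp,
        Subtype.ext (hlv.trans (by rw [mul_smul, hneg _ _ (h1 _ k0)]))⟩
    · exact ⟨negEl, by simp, tt, by simp, 0, by simp,
        Subtype.ext (hlv.trans (by rw [mul_smul, hneg _ _ (hv _ k0).1]))⟩
    · exact ⟨negEl, by simp, epsEl * tt, by simp, 0, by simp,
        Subtype.ext (hlv.trans (by rw [mul_smul, hneg _ _ (hv _ k0).2]))⟩
  set m := (s * r)⁻¹ * g with hm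
  have hsy : s * yEl = yEl * s := by
    simp only [List.mem_cons, List.not_mem_nil, or_false] at hs
    rcases hs with rfl | rfl
    · rw [one_mul, mul_one]
    · exact negEl_comm _
  have hmy : m * yEl = yEl * m :=
    ((Commute.mul_left hsy (hr r hrm)).inv_left.mul_left hg).eq
  have hme : m • e8 none = e8 (pt j) := by rw [hm, mul_smul, heq, inv_smul_smul]
  simp only [List.mem_cons, List.not_mem_nil, or_false] at hj
  rcases hj with rfl | rfl
  · obtain ⟨-, n, hn⟩ := stab_cent (m := m) (by rw [hme]; congr 1) (Or.inl hmy)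
    have hg' : g = s * r * m := by rw [hm, mul_inv_cancel_left]
    have hcn : yEl ^ n * epsEl = epsEl * yEl ^ n :=
      ((show Commute epsEl yEl from eps_comm).zpow_right n).symm.eq
    obtain ⟨i, hi, hval⟩ : ∃ i < 6, r * m = word1 (qWord i) * yEl ^ n := by
      simp only [List.mem_cons, List.not_mem_nil, or_false] at hrm
      rcases hrm with rfl | rfl | rfl <;> rcases hn with hn | hn <;> rw [hn]
      · exact ⟨0, by norm_num, by simp [qWord, word1]⟩
      · exact ⟨1, by norm_num, by simp [qWord, word1, letter1, hcn]⟩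
      · exact ⟨2, by norm_num, by simp [qWord, word1, letter1, htt]⟩
      · exact ⟨3, by norm_num, by simp [qWord, word1, letter1, htt, hcn, mul_assoc]⟩
      · exact ⟨4, by norm_num, by simp [qWord, word1, letter1, htt, mul_assoc]⟩
      · exact ⟨5, by norm_num, by simp [qWord, word1, letter1, htt, hcn, mul_assoc]⟩
    refine ⟨i, hi, n, ?_⟩
    simp only [List.mem_cons, List.not_mem_nil, or_false] at hs
    rcases hs with rfl | rfl
    · exact Or.inl (by rw [hg', one_mul, hval])
    · exact Or.inr (by rw [hg', mul_assoc, hval])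
  · exfalso
    have he : (pEl⁻¹ * m) • e8 none = e8 none := by rw [mul_smul, hme, ← pEl_e8, inv_smul_smul]
    have hinv : pEl⁻¹ * m * yEl * (pEl⁻¹ * m)⁻¹ = yEl⁻¹ := by
      calc pEl⁻¹ * m * yEl * (pEl⁻¹ * m)⁻¹ = pEl⁻¹ * (m * yEl * m⁻¹) * pEl := by group
        _ = pEl⁻¹ * yEl * pEl := by rw [mul_inv_eq_iff_eq_mul.2 hmy]
        _ = pEl⁻¹ * (yEl * pEl * yEl) * yEl⁻¹ := by group
        _ = yEl⁻¹ := by rw [pEl_y]; group
    obtain ⟨h1, -⟩ := stab_cent he (Or.inr hinv)
    have h2 : yEl = yEl⁻¹ := (mul_inv_eq_iff_eq_mul.2 h1).symm.trans hinv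
    have h3 : yEl ^ 2 = 1 := by rw [sq]; exact mul_eq_one_iff_eq_inv.2 h2
    have := orderOf_dvd_of_pow_eq_one h3
    rw [orderOf_yEl] at this
    norm_num at this

theorem centralizer_x1 {g : ↥Co0} (hg : g * xEl = xEl * g) :
    ∃ n : ℕ, g = xEl ^ n ∨ g = negEl * xEl ^ n := by
  haveI := co0_finite
  have hfix : xEl • g • e8 none = g • e8 none := by rw [← mul_smul, ← hg, mul_smul, xEl_fix]
  have key : ∀ u : ↥Co0, u * xEl = xEl * u → u • e8 none = e8 none → ∃ n : ℕ, u = xEl ^ n := by
    intro u hu he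
    obtain ⟨σ, hσ, c, hc, rfl⟩ := exists_mono_of_crossFix (crossFix_of_fix rfl he)
    obtain ⟨hs, hnc⟩ := (monoEl_e8 σ hσ c hc).1 he
    rw [xEl, monoEl_mul, monoEl_mul] at hu
    obtain ⟨e1, e2⟩ := monoEl_injective hu
    have hsh : shiftPerm • c = c := by
      ext i
      have := Finset.ext_iff.1 e2 i
      simp [Finset.mem_symmDiff] at this
      exact this.symm
    have hmem : ∀ i, decide (shiftPerm i ∈ c) = decide (i ∈ c) := fun i => decide_eq_decide.2 (by
      conv_lhs => rw [← hsh, ← Equiv.Perm.smul_def, Finset.smul_mem_smul_finset_iff])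
    have hor : ∀ k i, decide ((shiftPerm : GolayPt → GolayPt)^[k] i ∈ c) = decide (i ∈ c) := fun k => by
      induction k with
      | zero => intro i; rfl
      | succ k ih => intro i; rw [Function.iterate_succ_apply', hmem, ih]
    have hc0 : c = ∅ := by
      by_contra hne
      obtain ⟨i, hi⟩ := Finset.nonempty_iff_ne_empty.2 hne
      have hall : ∀ i j : GolayPt, i ≠ none → j ≠ none → ∃ k < 23, (shiftPerm : GolayPt → GolayPt)^[k] i = j := by
        decide +kernel
      have hin : i ≠ none := fun e => hnc (e ▸ hi)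
      have hce : c = bset 8388607 := by
        ext j
        have hb : ∀ j : GolayPt, (8388607 : ℕ).testBit (idx j) = true ↔ j ≠ none := by decide +kernel
        rw [mem_bset, hb]
        refine ⟨fun h e => hnc (e ▸ h), fun hj => ?_⟩
        obtain ⟨k, -, e⟩ := hall i j hin hj
        have := hor k i
        rw [e, decide_eq_decide] at this
        exact this.2 hi
      have := mem_supports_iff.1 hc
      rw [hce, mask_bset (by norm_num)] at this
      revert this
      decide +kernel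
    subst hc0
    let s : ↥S23 := ⟨σ, hσ, hs⟩
    have hcomm : emb23 s * xEl = xEl * emb23 s := by
      rw [← emb23_x, ← map_mul, ← map_mul]
      exact congrArg emb23 (Subtype.ext e1)
    have h1 := centralizer_x (t := 5) (hm := tgt_facts.2.1) (Or.inl (by norm_num))
      (emb23_mem (Or.inl (by norm_num)) s) hcomm
    rw [← mem_powers_iff_mem_zpowers, Submonoid.mem_powers_iff] at h1
    obtain ⟨n, hn⟩ := h1
    exact ⟨n, hn.symm⟩
  rcases fixed_by_el23 ((co0_norm g (e8 none)).trans (sqNorm_e8 none)) hfix with h | h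
  · obtain ⟨n, hn⟩ := key g hg h
    exact ⟨n, Or.inl hn⟩
  · obtain ⟨n, hn⟩ := key (negEl * g) (by rw [mul_assoc, hg, ← mul_assoc, negEl_comm, mul_assoc])
      (by rw [mul_smul, h, negEl_apply, neg_neg])
    exact ⟨n, Or.inr (by rw [← hn, ← mul_assoc, negEl_sq, one_mul])⟩

end Cfsg.Agent.FGS4.ConwayOut.Co1
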