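import Cfsg.Agent.FGS4.ConwayOut.Co1Data
import Cfsg.Agent.FGS4.ConwayOut.Co1Local

/-!
# The outer automorphism group of Co₁
-/

set_option autoImplicit false
set_option maxRecDepth 20000

namespace Cfsg.Agent.FGS4.ConwayOut.Co1

open Cfsg Cfsg.Agent Cfsg.Agent.Golay
open scoped Pointwise

/-- The quotient map. -/
noncomputable abbrev pr : ↥Co0 →* Spor.Co1 := QuotientGroup.mk' (Subgroup.center ↥Co0)

theorem pr_neg : pr negEl = 1 := (QuotientGroup.eq_one_iff _).2 negEl_mem_center

theorem pr_eq {g h : ↥Co0} (e : pr g = pr h) : g = h ∨ g = negEl * h := by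
  have h1 : pr (g * h⁻¹) = 1 := by rw [map_mul, map_inv, e, mul_inv_cancel]
  rcases center_cases ((QuotientGroup.eq_one_iff _).1 h1) with h2 | h2
  · exact Or.inl (mul_inv_eq_one.1 h2)
  · exact Or.inr (mul_inv_eq_iff_eq_mul.1 h2)

/-- The image of the rotation. -/
noncomputable abbrev X1 : Spor.Co1 := pr xEl
/-- The image of the multiplication. -/
noncomputable abbrev Y1 : Spor.Co1 := pr yEl

theorem orderOf_image {u : ↥Co0} {p : ℕ} [Fact p.Prime] (hp : p ≠ 2) (hu : orderOf u = p) : orderOf (pr u) = p := by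
  refine orderOf_eq_prime (by rw [← map_pow, ← hu, pow_orderOf_eq_one, map_one]) fun e => ?_
  have h1 : orderOf u ∣ 2 := by
    rw [orderOf_dvd_iff_pow_eq_one]
    rcases center_cases ((QuotientGroup.eq_one_iff _).1 e) with h | h
    · rw [h, one_pow]
    · rw [h, sq, negEl_sq]
  rw [hu] at h1
  exact hp ((Nat.prime_dvd_prime_iff_eq (Fact.out : p.Prime) Nat.prime_two).1 h1)

theorem orderOf_X1 : orderOf X1 = 23 := by
  haveI := Fact.mk (by norm_num : Nat.Prime 23)
  exact orderOf_image (by norm_num) orderOf_xEl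

theorem orderOf_Y1 : orderOf Y1 = 11 := by
  haveI := Fact.mk (by norm_num : Nat.Prime 11)
  exact orderOf_image (by norm_num) orderOf_yEl

theorem centralizer_X1 {u : Spor.Co1} (h : Commute u X1) : ∃ n : ℕ, u = X1 ^ n := by
  obtain ⟨g, rfl⟩ := QuotientGroup.mk'_surjective _ u
  have e : pr (g * xEl * g⁻¹) = pr xEl := by
    rw [map_mul, map_mul, map_inv]; exact mul_inv_eq_iff_eq_mul.2 h.eq
  obtain ⟨n, hn | hn⟩ := centralizer_x1 (commute_of_sign (n := 23) (by decide)
    (by rw [← orderOf_xEl, pow_orderOf_eq_one]) (pr_eq e))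
  · exact ⟨n, by rw [hn, map_pow]⟩
  · exact ⟨n, by rw [hn, map_mul, pr_neg, one_mul, map_pow]⟩

theorem q_central : ∀ i < 6, central (List.replicate 6 (qWord i)).flatten = true := by decide +kernel

theorem q_comm (i : ℕ) : word1 (qWord i) * yEl = yEl * word1 (qWord i) := by
  have h : ∀ w : List ℕ, (∀ k ∈ w, k = 0 ∨ k = 23) → word1 w * yEl = yEl * word1 w := by
    intro w hw
    induction w with
    | nil => rw [word1, one_mul, mul_one]
    | cons k w ih =>
      have ih' := ih fun l hl => hw l (List.mem_cons_of_mem _ hl)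
      have hk : letter1 k * yEl = yEl * letter1 k := by
        rcases hw k List.mem_cons_self with rfl | rfl
        · rw [letter1, if_pos rfl]; exact el_comm
        · rw [letter1, if_neg (by norm_num), if_neg (by norm_num)]; exact eps_comm
      rw [word1, mul_assoc, ih', ← mul_assoc, hk, mul_assoc]
  refine h _ fun k hk => ?_
  match i with
  | 0 | 1 | 2 | 3 | 4 | 5 => simp [qWord] at hk <;> omega
  | n + 6 => simp [qWord] at hk

theorem involution_Y1 {u : Spor.Co1} (h : Commute u Y1) (h2 : u * u = 1) :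
    ∃ i < 6, u = pr (word1 (qWord i)) := by
  obtain ⟨g, rfl⟩ := QuotientGroup.mk'_surjective _ u
  have e : pr (g * yEl * g⁻¹) = pr yEl := by
    rw [map_mul, map_mul, map_inv]; exact mul_inv_eq_iff_eq_mul.2 h.eq
  obtain ⟨i, hi, n, hn⟩ := centralizer_y1 (commute_of_sign (n := 11) (by decide)
    (by rw [← orderOf_yEl, pow_orderOf_eq_one]) (pr_eq e))
  have hg : pr g = pr (word1 (qWord i)) * Y1 ^ n := by
    rcases hn with hn | hn <;> simp [hn, negEl_mem_center, Y1]
  refine ⟨i, hi, ?_⟩
  set q := pr (word1 (qWord i))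
  have hq6 : q ^ 6 = 1 := by
    have hpow : ∀ m, word1 (List.replicate m (qWord i)).flatten = word1 (qWord i) ^ m := by
      intro m
      induction m with
      | zero => rfl
      | succ m ih => rw [List.replicate_succ, List.flatten_cons, word1_append, ih, pow_succ']
    rw [← map_pow, ← hpow]
    rcases central_spec (q_central i hi) with h | h <;> rw [h]
    · exact map_one _
    · exact pr_neg
  have hc : Commute q (Y1 ^ n) := by
    refine Commute.zpow_right ?_ n
    show q * Y1 = Y1 * q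
    rw [← map_mul, ← map_mul, q_comm]
  change pr g = q
  change pr g * pr g = 1 at h2
  have h6 : (pr g) ^ 6 = 1 := by rw [show 6 = 2 * 3 by rfl, pow_mul, sq, h2, one_pow]
  rw [hg, hc.mul_pow, hq6, one_mul, ← zpow_natCast, ← zpow_mul, ← orderOf_dvd_iff_zpow_eq_one, orderOf_Y1] at h6
  have h11 : ((11 : ℕ) : ℤ) ∣ n := by
    push_cast at h6 ⊢
    omega
  rw [hg, orderOf_dvd_iff_zpow_eq_one.1 (orderOf_Y1.symm ▸ h11), mul_one]

/-- Evaluation in the quotient. -/
def evalG {Γ : Type*} [Group Γ] (T E X : Γ) (w : List ℕ) : Γ :=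
  (w.map fun k => if k = 0 then T else if k < 23 then X ^ k else E).prod

theorem evalG_map {Γ : Type*} [Group Γ] (φ : MulAut Γ) (T E X : Γ) (w : List ℕ) :
    φ (evalG T E X w) = evalG (φ T) (φ E) (φ X) w := by
  rw [evalG, map_list_prod, List.map_map, evalG]
  refine congrArg List.prod (List.map_congr_left fun k _ => ?_)
  simp only [Function.comp_apply]
  split_ifs <;> simp

theorem evalG_eq (w : List ℕ) :
    evalG (pr (matEl Co3.mat Co3.mat_ok)) (pr epsEl) X1 w = pr (word1 w) := by
  induction w with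
  | nil => simp [evalG, word1]
  | cons k w ih =>
    rw [word1, map_mul, ← ih, letter1]
    simp only [evalG, List.map_cons, List.prod_cons]
    split_ifs <;> simp

theorem evalG_subst (a : ℕ) (ha : a = 1 ∨ a = 22) (qt qe w : List ℕ) :
    evalG (pr (word1 qt)) (pr (word1 qe)) (X1 ^ a) w = pr (word1 (subst a qt qe w)) := by
  induction w with
  | nil => simp [evalG, word1, subst]
  | cons k w ih =>
    rw [show subst a qt qe (k :: w) = (if k = 0 then qt else if k < 23 then [a * k % 23] else qe) ++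
      subst a qt qe w from List.flatMap_cons, word1_append, map_mul, ← ih]
    simp only [evalG, List.map_cons, List.prod_cons]
    congr 1
    split_ifs with h0 h1
    · rfl
    · have hne : a * k % 23 ≠ 0 := by rcases ha with rfl | rfl <;> omega
      simp only [word1, mul_one, letter1, if_neg hne, if_pos (Nat.mod_lt (a * k) (show 0 < 23 by norm_num)),
        map_pow]
      rw [← pow_mul, ← pow_mod_orderOf X1 (a * k), orderOf_X1]
    · rfl

theorem sign_mem (H : Subgroup ↥Co0) (hx : xEl ∈ H) (he : epsEl ∈ H) (hneg : negEl ∈ H) {c : Finset GolayPt}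
    (hc : c ∈ supports (golayCode : Set (GolayPt → ZMod 2))) : monoEl 1 (one_mem _) c hc ∈ H := by
  let P : ℕ → Prop := fun m => ∃ h : bset m ∈ supports (golayCode : Set (GolayPt → ZMod 2)),
    monoEl 1 (one_mem _) (bset m) h ∈ H
  have h0 : P 0 := ⟨by rw [bset_zero]; exact empty_mem_supports, by
    convert one_mem H using 1
    rw [← monoEl_one]
    exact monoEl_congr rfl bset_zero⟩
  have hxor : ∀ m n, P m → P n → P (m ^^^ n) := by
    rintro m n ⟨hm, hmH⟩ ⟨hn, hnH⟩
    refine ⟨by rw [bset_xor]; exact symmDiff_mem_supports hm hn, ?_⟩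
    convert mul_mem hmH hnH using 1
    rw [monoEl_mul]
    exact monoEl_congr (by rw [mul_one]) (by rw [bset_xor, one_smul])
  have hk : ∀ k < 24, P (dodMask k) := by
    intro k hk
    by_cases hk23 : k = 23
    · subst hk23
      have e : bset (dodMask 23) = Finset.univ := Finset.eq_univ_of_forall fun i => by
        rw [mem_bset]; exact dodMask_ok.2 i
      refine ⟨by rw [e]; exact univ_supports, ?_⟩
      convert hneg using 1
      rw [negEl_eq]
      exact monoEl_congr rfl e
    have hσ := pow_mem shiftPerm_mem k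
    have e : bset (dodMask k) = (shiftPerm ^ k) • bset dodNat := by
      ext i
      have hlt : rotSrc k (idx i) < 24 := by
        unfold rotSrc
        have := Nat.mod_lt (idx i + 23 - k % 23) (show 0 < 23 by norm_num)
        split_ifs <;> omega
      rw [mem_bset, dodMask_ok.1 k (by omega), ← Finset.inv_smul_mem_iff, mem_bset, Equiv.Perm.smul_def,
        show (shiftPerm ^ k)⁻¹ i = pt (rotSrc k (idx i)) from (rotSrc_ok k (by omega) i).symm, idx_pt hlt]
    have hcs : bset (dodMask k) ∈ supports (golayCode : Set (GolayPt → ZMod 2)) := by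
      rw [e]; exact smul_mem_supports hσ (bset_mem_supports dodNat_inC)
    refine ⟨hcs, ?_⟩
    have h1 : monoEl 1 (one_mem _) (bset (dodMask k)) hcs * xEl ^ k = xEl ^ k * epsEl := by
      rw [xEl, monoEl_pow, epsEl, monoEl_mul, monoEl_mul]
      refine monoEl_congr (by rw [one_mul, mul_one]) ?_
      rw [e, one_smul]
      ext i
      simp [Finset.mem_symmDiff]
    rw [eq_mul_inv_of_mul_eq h1]
    exact mul_mem (mul_mem (pow_mem hx k) he) (inv_mem (pow_mem hx k))
  have hrow : ∀ r ∈ rows, P r := by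
    intro r hr
    obtain ⟨h1, h2⟩ := rowCert_ok
    rw [← h1, List.mem_map] at hr
    obtain ⟨l, hl, rfl⟩ := hr
    simp only [List.all_eq_true, decide_eq_true_eq] at h2
    have hl2 := h2 l hl
    clear hl h1
    induction l with
    | nil => exact h0
    | cons k l ih =>
      exact hxor _ _ (hk k (hl2 k List.mem_cons_self)) (ih fun m hm => hl2 m (List.mem_cons_of_mem _ hm))
  have key : ∀ l : List ℕ, (∀ r ∈ l, r ∈ rows) → ∀ j, P (encAux l j) := by
    intro l
    induction l with
    | nil => intro _ j; rw [encAux]; exact h0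
    | cons r rs ih =>
      intro hl j
      have ih' := ih (fun t ht => hl t (List.mem_cons_of_mem _ ht)) (j / 2)
      rw [encAux]
      cases (j % 2 == 1)
      · simpa using ih'
      · rw [cond_true]; exact hxor _ _ (hrow r (hl r List.mem_cons_self)) ih'
  obtain ⟨i, -, hi⟩ := inC_eq_encode (mem_supports_iff.1 hc)
  obtain ⟨hm, hmH⟩ := key rows (fun _ h => h) i
  convert hmH using 1
  refine monoEl_congr rfl ?_
  rw [← bset_mask c, ← hi]
  rfl

theorem gen_top (H : Subgroup ↥Co0) (hx : xEl ∈ H) (hy : yEl ∈ H) (ht : matEl Co3.mat Co3.mat_ok ∈ H)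
    (he : epsEl ∈ H) (hneg : negEl ∈ H) : H.index ≤ 2 := by
  classical
  haveI := co0_finite
  have h5 : PG 5 tgt_facts.2.1 ≤ H := by
    have := Co3.gen (H ⊓ PG 5 tgt_facts.2.1) inf_le_right ⟨hx, xEl_mem (Or.inl (by norm_num))⟩
      ⟨hy, yEl_mem (Or.inl (by norm_num))⟩ ⟨ht, Co3.data.el_mem⟩
    exact this ▸ inf_le_left
  set v₀ : ↥leechLattice := ⟨_, tgt_facts.2.1⟩ with hv₀
  have hmem : toFun (peakList 5) ∈ leechLattice := by rw [peakList_eq]; exact tgt_facts.2.1
  obtain ⟨-, s2, s2', s3, s4⟩ := shape_ok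
  have hw : word1 shapeWord ∈ H := by
    have : ∀ w : List ℕ, word1 w ∈ H := fun w => by
      induction w with
      | nil => exact one_mem _
      | cons k w ih =>
        refine mul_mem ?_ ih
        unfold letter1
        split_ifs
        · exact ht
        · exact pow_mem hx _
        · exact he
    exact this _
  have hu : ((word1 shapeWord • v₀ : ↥leechLattice) : GolayPt → ℤ) = toFun shapeVec := by
    rw [show v₀ = ⟨_, hmem⟩ from Subtype.ext (peakList_eq 5).symm, word1_smul, s2]
  set u := word1 shapeWord • v₀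
  obtain ⟨T₀, hT₀⟩ : ∃ T₀ : Finset GolayPt, (Finset.univ.filter fun i => (toFun shapeVec i).natAbs = 3) = T₀ :=
    ⟨_, rfl⟩
  have hT0c : T₀.card = 3 ∧ T₀ ⊆ ([none] : List GolayPt).toFinsetᶜ := by
    rw [← hT₀]
    refine ⟨by rw [s2']; decide +kernel, fun i hi => ?_⟩
    rw [Finset.mem_filter] at hi
    simp only [List.toFinset_cons, List.toFinset_nil, insert_empty_eq, Finset.mem_compl, Finset.mem_singleton]
    exact fun e => s4 (e ▸ hi.2)
  set P3 := (([none] : List GolayPt).toFinsetᶜ).powersetCard 3 with hP3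
  have hmove : ∀ T : P3, ∃ σ ∈ TwoGroups.OutMathieu.fixList [none], σ • T₀ = T.1 := fun T =>
    TwoGroups.OutMathieu.fixList_subsets [none] (by simp) (by simp) T₀ T.1 hT0c.2
      (Finset.mem_powersetCard.1 T.2).1 hT0c.1 (Finset.mem_powersetCard.1 T.2).2
  choose σ hσ hσT using hmove
  have hσM : ∀ T, σ T ∈ M24 := fun T => (TwoGroups.OutMathieu.mem_fixList.1 (hσ T)).1
  let f : P3 × ↥(supports (golayCode : Set (GolayPt → ZMod 2))) → MulAction.orbit H v₀ := fun Tc =>
    ⟨(monoEl 1 (one_mem _) Tc.2.1 Tc.2.2 * monoEl (σ Tc.1) (hσM Tc.1) ∅ empty_mem_supports) • u,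
      ⟨monoEl 1 (one_mem _) Tc.2.1 Tc.2.2 * monoEl (σ Tc.1) (hσM Tc.1) ∅ empty_mem_supports * word1 shapeWord,
        mul_mem (mul_mem (sign_mem H hx he hneg Tc.2.2) (h5 (emb23_mem (Or.inl (by norm_num))
          ⟨σ Tc.1, hσM Tc.1, (TwoGroups.OutMathieu.mem_fixList.1 (hσ Tc.1)).2 none (by simp)⟩))) hw⟩,
      (mul_smul (α := ↥Co0) _ _ v₀ :)⟩
  have hval : ∀ Tc i, ((f Tc).1 : GolayPt → ℤ) i = sgnOf Tc.2.1 i * toFun shapeVec ((σ Tc.1).symm i) := by
    intro Tc i
    show (((monoEl 1 (one_mem _) Tc.2.1 Tc.2.2 * monoEl (σ Tc.1) (hσM Tc.1) ∅ empty_mem_supports) • u :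
      ↥leechLattice) : GolayPt → ℤ) i = _
    rw [mul_smul, monoEl_apply, signedPerm_eq, monoEl_apply, signedPerm_eq, hu]
    simp [sgnOf]
    rfl
  have hf : Function.Injective f := by
    rintro ⟨T, c⟩ ⟨T', c'⟩ e
    have e' : ∀ i, sgnOf c.1 i * toFun shapeVec ((σ T).symm i) = sgnOf c'.1 i * toFun shapeVec ((σ T').symm i) :=
      fun i => by rw [← hval ⟨T, c⟩, ← hval ⟨T', c'⟩, e]
    have hT : T = T' := by
      refine Subtype.ext ?_
      rw [← hσT T, ← hσT T']
      ext i
      have hmemT : ∀ τ : Equiv.Perm GolayPt, i ∈ τ • T₀ ↔ (toFun shapeVec (τ.symm i)).natAbs = 3 := fun τ => by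
        rw [← Finset.inv_smul_mem_iff, ← hT₀, Finset.mem_filter]
        exact and_iff_right (Finset.mem_univ _)
      have h := congrArg Int.natAbs (e' i)
      simp only [Int.natAbs_mul] at h
      have hs : ∀ c : Finset GolayPt, (sgnOf c i).natAbs = 1 := fun c => by unfold sgnOf; split_ifs <;> rfl
      rw [hs, hs, one_mul, one_mul] at h
      rw [hmemT, hmemT, h]
    subst hT
    refine Prod.ext rfl (Subtype.ext (Finset.ext fun i => ?_))
    have h := mul_right_cancel₀ (s3 _) (e' i)
    simp only [sgnOf] at h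
    by_cases h1 : i ∈ c.1 <;> by_cases h2 : i ∈ c'.1 <;> simp [h1, h2] at h ⊢
  have hfin : Finite (MulAction.orbit H v₀) := (MulAction.orbitEquivQuotientStabilizer H v₀).finite_iff.2 inferInstance
  have hge := Nat.card_le_card_of_injective f hf
  rw [Nat.card_prod, Nat.card_eq_fintype_card (α := P3), Fintype.card_coe, hP3, Finset.card_powersetCard,
    TwoGroups.OutMathieu.card_compl_nodup _ (by simp), Nat.card_coe_set_eq, supports_ncard,
    Nat.card_coe_set_eq] at hge
  have hst : Nat.card (MulAction.stabilizer H v₀) = 495766656000 := by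
    rw [← Co3.PG_card]
    exact Nat.card_congr ⟨fun g => ⟨g.1.1, g.2⟩, fun g => ⟨⟨g.1, h5 g.2⟩, g.2⟩, fun _ => rfl, fun _ => rfl⟩
  have hH : (MulAction.orbit H v₀).ncard * 495766656000 = Nat.card H := by
    rw [← hst, ← MulAction.index_stabilizer, mul_comm, Subgroup.card_mul_index]
  have htot := H.card_mul_index
  rw [← hH, co0_card] at htot
  have hC : (MulAction.orbit H v₀).ncard * H.index = 16773120 := by
    refine Nat.eq_of_mul_eq_mul_right (show 0 < 495766656000 by norm_num) ?_
    rw [mul_right_comm, htot]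
  norm_num [Nat.choose_eq_factorial_div_factorial, Nat.factorial] at hge
  nlinarith [hge, hC]

theorem card_out_Co1 : Nat.card (Cfsg.Out Spor.Co1) = 1 := by
  haveI := co0_finite
  haveI := Fact.mk (by norm_num : Nat.Prime 23)
  haveI : Finite Spor.Co1 := Finite.of_surjective _ (QuotientGroup.mk'_surjective (Subgroup.center ↥Co0))
  set X := X1
  set Y := Y1
  have hXo : orderOf X = 23 := orderOf_X1
  have hYX : Y * X * Y⁻¹ = X ^ 2 := by
    rw [← map_inv, ← map_mul, ← map_mul, ← map_pow, x_y Co3.data]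
  have hYi : ∀ i a : ℕ, Y ^ i * X ^ a * (Y ^ i)⁻¹ = X ^ (2 ^ i * a) := by
    intro i a
    induction i with
    | zero => simp
    | succ i ih =>
      calc Y ^ (i + 1) * X ^ a * (Y ^ (i + 1))⁻¹ = Y * (Y ^ i * X ^ a * (Y ^ i)⁻¹) * Y⁻¹ := by
            rw [pow_succ']; group
        _ = (Y * X * Y⁻¹) ^ (2 ^ i * a) := by rw [ih, conj_pow]
        _ = X ^ (2 ^ (i + 1) * a) := by rw [hYX, ← pow_mul, pow_succ]; congr 1; ring
  have hYX' : Y⁻¹ * X * Y = X ^ 12 := by
    have h24 : X = X ^ 24 := by rw [pow_succ, ← hXo, pow_orderOf_eq_one, one_mul]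
    conv_lhs => rw [h24, show (24 : ℕ) = 2 * 12 by norm_num, pow_mul, ← hYX, conj_pow]
    group
  suffices key : ∀ φ : MulAut Spor.Co1, φ ∈ Inn Spor.Co1 by
    haveI : Subsingleton (Cfsg.Out Spor.Co1) := ⟨fun p q => by
      obtain ⟨a, rfl⟩ := QuotientGroup.mk'_surjective (Inn Spor.Co1) p
      obtain ⟨b, rfl⟩ := QuotientGroup.mk'_surjective (Inn Spor.Co1) q
      exact QuotientGroup.eq.2 (key _)⟩
    exact Nat.card_unique
  have step : ∀ (g : Spor.Co1) (φ : MulAut Spor.Co1), MulAut.conj g * φ ∈ Inn Spor.Co1 → φ ∈ Inn Spor.Co1 :=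
    fun g φ h => by
      have h' := mul_mem (inv_mem (⟨g, rfl⟩ : MulAut.conj g ∈ Inn Spor.Co1)) h
      rwa [inv_mul_cancel_left] at h'
  set T := pr (matEl Co3.mat Co3.mat_ok)
  set E := pr epsEl
  have last : ∀ φ : MulAut Spor.Co1, ∀ a ∈ [1, 22], φ X = X ^ a → φ Y = Y → φ ∈ Inn Spor.Co1 := by
    intro φ a ha hX hY
    have himg : ∀ u : Spor.Co1, Commute u Y → u * u = 1 → ∃ i < 6, φ u = pr (word1 (qWord i)) :=
      fun u hu h2 => involution_Y1 (by
        show φ u * Y = Y * φ u
        rw [← hY, ← map_mul, ← map_mul, hu.eq]) (by rw [← map_mul, h2, map_one])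
    obtain ⟨i, hi, hTi⟩ := himg T (by show T * Y = Y * T; rw [← map_mul, ← map_mul, el_comm])
      (by rw [← map_mul, matEl_mul_self, map_one])
    obtain ⟨j, hj, hEj⟩ := himg E (by show E * Y = Y * E; rw [← map_mul, ← map_mul, eps_comm]) (by
      rw [← map_mul, epsEl, monoEl_mul, ← map_one pr, ← monoEl_one]
      exact congrArg pr (monoEl_congr (by rw [mul_one]) (by rw [one_smul, symmDiff_self]; rfl)))
    rcases cases_ok a ha i hi j hj with ⟨rfl, rfl, rfl⟩ | ⟨hlt, hnc⟩
    · have hT : φ T = T := by rw [hTi]; simp [qWord, word1, letter1, T]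
      have hE : φ E = E := by rw [hEj]; simp [qWord, word1, letter1, E]
      set F := φ.toMonoidHom.eqLocus (MonoidHom.id Spor.Co1)
      have hle := gen_top (F.comap pr) (show φ X = X by rw [hX, pow_one]) hY hT hE
        (show φ (pr negEl) = pr negEl by rw [pr_neg, map_one])
      rw [Subgroup.index_comap_of_surjective _ (QuotientGroup.mk'_surjective _)] at hle
      have hF : F = ⊤ := by
        haveI := co1_facts.1
        by_contra hne
        have h2 : F.index = 2 := by
          have h0 : F.index ≠ 0 := Subgroup.index_ne_zero_of_finite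
          have h1 : F.index ≠ 1 := fun e => hne (Subgroup.index_eq_one.1 e)
          omega
        haveI := Subgroup.normal_of_index_eq_two h2
        rcases Subgroup.Normal.eq_bot_or_eq_top (H := F) inferInstance with h | h
        · rw [h, Subgroup.index_bot] at h2
          have := co1_facts.2
          change Nat.card Spor.Co1 = _ at this
          omega
        · exact hne h
      refine ⟨1, ?_⟩
      rw [map_one]
      refine (MulEquiv.ext fun u => ?_).symm
      exact (hF ▸ Subgroup.mem_top u : u ∈ F)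
    · exfalso
      set w := rels.getD (certIdx a i j) []
      have hw : central w = true := by
        have h := rels_ok
        simp only [List.all_eq_true, Bool.and_eq_true] at h
        refine (h w ?_).2
        show rels.getD _ [] ∈ rels
        rw [List.getD_eq_getElem?_getD, List.getElem?_eq_getElem hlt, Option.getD_some]
        exact List.getElem_mem hlt
      have e1 : evalG T E X w = 1 := by
        rw [evalG_eq]
        rcases central_spec hw with h | h <;> rw [h]
        · exact map_one _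
        · exact pr_neg
      have e2 := congrArg φ e1
      rw [evalG_map, map_one, hTi, hEj, hX, evalG_subst a (by simpa using ha)] at e2
      obtain ⟨n1, n2⟩ := notCentral_spec hnc
      rcases center_cases ((QuotientGroup.eq_one_iff _).1 e2) with h | h
      · exact n1 h
      · exact n2 h
  have mid : ∀ φ : MulAut Spor.Co1, ∀ a ∈ [1, 22], φ X = X ^ a → φ ∈ Inn Spor.Co1 := by
    intro φ a ha hX
    have ha2 : (X ^ a) ^ a = X := by
      rw [← pow_mul, ← pow_mod_orderOf, hXo]
      simp only [List.mem_cons, List.not_mem_nil, or_false] at ha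
      rcases ha with rfl | rfl <;> norm_num
    have hc : Commute (Y⁻¹ * φ Y) (X ^ a) := by
      have h := congrArg φ hYX
      rw [map_mul, map_mul, map_inv, map_pow, hX] at h
      rw [← pow_mul, mul_comm a 2, show X ^ (2 * a) = Y * X ^ a * Y⁻¹ by simpa using (hYi 1 a).symm] at h
      show Y⁻¹ * φ Y * X ^ a = X ^ a * (Y⁻¹ * φ Y)
      calc Y⁻¹ * φ Y * X ^ a = Y⁻¹ * (φ Y * X ^ a * (φ Y)⁻¹) * φ Y := by group
        _ = X ^ a * (Y⁻¹ * φ Y) := by rw [h]; group
    obtain ⟨j, hj⟩ := centralizer_X1 (ha2 ▸ hc.pow_right a : Commute (Y⁻¹ * φ Y) X)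
    have hφY : φ Y = Y * X ^ j := by
      have e : Y⁻¹ * φ Y = X ^ j := hj
      rw [← e, mul_inv_cancel_left]
    refine step (X ^ (2 * j)) φ (last _ a ha ?_ ?_)
    · rw [MulAut.mul_apply, hX, MulAut.conj_apply]
      group
    · rw [MulAut.mul_apply, hφY, MulAut.conj_apply]
      have h23j : (Y⁻¹ * X ^ (2 * j) * Y) * X ^ j * (X ^ (2 * j))⁻¹ = 1 := by
        rw [show Y⁻¹ * X ^ (2 * j) * Y = (Y⁻¹ * X * Y) ^ (2 * j) from by
            simpa [MulAut.conj_apply] using map_pow (MulAut.conj Y⁻¹) X (2 * j),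
          hYX', ← pow_mul, mul_inv_eq_one, ← pow_add, show 12 * (2 * j) + j = 23 * j + 2 * j by ring,
          pow_add, pow_mul, ← hXo, pow_orderOf_eq_one, one_pow, one_mul]
      calc X ^ (2 * j) * (Y * X ^ j) * (X ^ (2 * j))⁻¹
          = Y * ((Y⁻¹ * X ^ (2 * j) * Y) * X ^ j * (X ^ (2 * j))⁻¹) := by group
        _ = Y := by rw [h23j, mul_one]
  intro φ
  have hcard : Nat.card Spor.Co1 = 4157776806543360000 := co1_facts.2
  have hPX : Nat.card (Subgroup.zpowers X) = 23 := by rw [Nat.card_zpowers, hXo]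
  have hfac : (Nat.card Spor.Co1).factorization 23 = 1 := by
    have hd : 23 ∣ Nat.card Spor.Co1 := hXo ▸ orderOf_dvd_natCard X
    have h1 := (Nat.Prime.dvd_iff_one_le_factorization (by norm_num : Nat.Prime 23) Nat.card_pos.ne').1 hd
    have h2 : ¬ 2 ≤ (Nat.card Spor.Co1).factorization 23 := fun h => by
      have := ((by norm_num : Nat.Prime 23).pow_dvd_iff_le_factorization Nat.card_pos.ne').2 h
      rw [hcard] at this
      norm_num at this
    omega
  let P : Sylow 23 Spor.Co1 := Sylow.ofCard (Subgroup.zpowers X) (by rw [hPX, hfac, pow_one])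
  have hφo : orderOf (φ X) = 23 := (φ.orderOf_eq X).trans hXo
  obtain ⟨Q, hQ⟩ := IsPGroup.exists_le_sylow (IsPGroup.of_card (p := 23) (n := 1)
    (G := Subgroup.zpowers (φ X)) (by rw [Nat.card_zpowers, hφo, pow_one]))
  obtain ⟨g, rfl⟩ := MulAction.exists_smul_eq Spor.Co1 P Q
  obtain ⟨u, hu, hgu⟩ := hQ (Subgroup.mem_zpowers (φ X))
  refine step g⁻¹ φ ?_
  have hu' : (MulAut.conj g⁻¹ * φ) X = u := by
    rw [MulAut.mul_apply, MulAut.conj_apply, ← hgu]
    show g⁻¹ * (g * u * g⁻¹) * g⁻¹⁻¹ = u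
    group
  rw [show ((P : Subgroup Spor.Co1) : Set Spor.Co1) = (Subgroup.zpowers X : Set Spor.Co1) from rfl, SetLike.mem_coe,
    ← mem_powers_iff_mem_zpowers, Submonoid.mem_powers_iff] at hu
  obtain ⟨b, hb⟩ := hu
  have hb0 : b % 23 ≠ 0 := fun e => by
    have h1 : (MulAut.conj g⁻¹ * φ) X = 1 := by
      rw [hu', ← hb, ← pow_mod_orderOf, hXo, e, pow_zero]
    have h2 : X = 1 := (MulAut.conj g⁻¹ * φ).injective (h1.trans (map_one _).symm)
    rw [h2, orderOf_one] at hXo
    norm_num at hXo
  have harith : ∀ b < 23, b ≠ 0 → ∃ i < 11, 2 ^ i * b % 23 = 1 ∨ 2 ^ i * b % 23 = 22 := by decide +kernel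
  obtain ⟨i, -, hi⟩ := harith _ (Nat.mod_lt _ (by norm_num)) hb0
  refine step (Y ^ i) _ (mid _ (2 ^ i * (b % 23) % 23) (by rcases hi with h | h <;> simp [h]) ?_)
  rw [MulAut.mul_apply, hu', ← hb, MulAut.conj_apply, hYi, ← pow_mod_orderOf X (2 ^ i * b), hXo]
  congr 1
  rw [Nat.mul_mod (2 ^ i) (b % 23), Nat.mod_mod, ← Nat.mul_mod]

end Cfsg.Agent.FGS4.ConwayOut.Co1
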