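import Cfsg.Agent.FGS4.ConwayOut.Co3Data

/-!
# Words in the generators of Co₁
-/

set_option autoImplicit false
set_option maxRecDepth 20000

namespace Cfsg.Agent.FGS4.ConwayOut.Co1

open Cfsg Cfsg.Agent Cfsg.Agent.Golay
open scoped Pointwise

/-- The dodecad of the residue `0` and the squares. -/
def dodNat : ℕ := 0b1010011001101011111

theorem dodNat_inC : inC dodNat = true := by decide +kernel

/-- The sign change on the dodecad. -/
noncomputable def epsEl : ↥Co0 := monoEl 1 (one_mem _) (bset dodNat) (bset_mem_supports dodNat_inC)

/-- The sign change of a list. -/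
def epsList (v : List ℤ) : List ℤ :=
  (List.range 24).map fun i => if dodNat.testBit i then -v.getD i 0 else v.getD i 0

theorem epsEl_smul (v : List ℤ) (hv : toFun v ∈ leechLattice) :
    ((epsEl • (⟨toFun v, hv⟩ : ↥leechLattice) : ↥leechLattice) : GolayPt → ℤ) = toFun (epsList v) := by
  rw [epsEl, monoEl_apply]
  funext i
  rw [signedPerm_eq, show (1 : Equiv.Perm GolayPt).symm i = i from rfl, sgnOf]
  simp only [toFun, epsList, mem_bset, List.getD_eq_getElem?_getD, List.getElem?_map,
    List.getElem?_range (idx_lt i), Option.map_some, Option.getD_some]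
  split_ifs <;> simp

/-- The six representatives as words: the letters are `0` for the involution and `23` for the sign change. -/
def qWord : ℕ → List ℕ
  | 1 => [23]
  | 2 => [0]
  | 3 => [0, 23]
  | 4 => [23, 0]
  | 5 => [23, 0, 23]
  | _ => []

/-- The value of a letter. -/
noncomputable def letter1 (k : ℕ) : ↥Co0 :=
  if k = 0 then matEl Co3.mat Co3.mat_ok else if k < 23 then xEl ^ k else epsEl

/-- The value of a word. -/
noncomputable def word1 : List ℕ → ↥Co0
  | [] => 1
  | k :: w => letter1 k * word1 w

/-- The action of a word on lists. -/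
def wordList1 : List ℕ → List ℤ → List ℤ
  | [], v => v
  | k :: w, v => if k = 0 then matList Co3.mat (wordList1 w v) else
      if k < 23 then rotList k (wordList1 w v) else epsList (wordList1 w v)

theorem word1_append (u v : List ℕ) : word1 (u ++ v) = word1 u * word1 v := by
  induction u with
  | nil => exact (one_mul _).symm
  | cons k u ih => rw [List.cons_append, word1, word1, ih, mul_assoc]

theorem word1_smul (w : List ℕ) (v : List ℤ) (hv : toFun v ∈ leechLattice) :
    ((word1 w • (⟨toFun v, hv⟩ : ↥leechLattice) : ↥leechLattice) : GolayPt → ℤ) = toFun (wordList1 w v) := by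
  induction w with
  | nil => rw [word1, one_smul]; rfl
  | cons k w ih =>
    have hmem : toFun (wordList1 w v) ∈ leechLattice := ih ▸ Subtype.prop _
    rw [word1, mul_smul, show word1 w • (⟨toFun v, hv⟩ : ↥leechLattice) = ⟨_, hmem⟩ from Subtype.ext ih,
      wordList1, letter1]
    by_cases hk : k = 0
    · rw [if_pos hk, if_pos hk, matEl_apply]
      exact matFun_toFun _ _
    rw [if_neg hk, if_neg hk]
    by_cases hk' : k < 23
    · rw [if_pos hk', if_pos hk', xEl_smul k hk']
    · rw [if_neg hk', if_neg hk', epsEl_smul]

/-- The negation of a list. -/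
def negList (v : List ℤ) : List ℤ := v.map fun a => -a

/-- A word acts as the identity or as negation. -/
def central (w : List ℕ) : Bool :=
  ((List.range 24).all fun i => wordList1 w (e8List i) == e8List i) ||
    (List.range 24).all fun i => wordList1 w (e8List i) == negList (e8List i)

/-- A word moves a frame vector off itself and its negative. -/
def notCentral (w : List ℕ) : Bool :=
  ((List.range 24).any fun i => (List.range 24).any fun j =>
      (wordList1 w (e8List i)).getD j 0 != (e8List i).getD j 0) &&
    (List.range 24).any fun i => (List.range 24).any fun j =>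
      (wordList1 w (e8List i)).getD j 0 != -((e8List i).getD j 0)

/-- Substitution of images of the generators. -/
def subst (a : ℕ) (qt qe w : List ℕ) : List ℕ :=
  w.flatMap fun k => if k = 0 then qt else if k < 23 then [a * k % 23] else qe

theorem e8_list (i : ℕ) (hi : i < 24) : toFun (e8List i) = (e8 (pt i) : GolayPt → ℤ) := by
  have h := e8_eq (pt i)
  rwa [idx_pt hi] at h

theorem word1_e8 (w : List ℕ) (i : GolayPt) :
    ((word1 w • e8 i : ↥leechLattice) : GolayPt → ℤ) = toFun (wordList1 w (e8List (idx i))) := by
  have hm : toFun (e8List (idx i)) ∈ leechLattice := e8_eq i ▸ (e8 i).2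
  rw [show e8 i = ⟨_, hm⟩ from Subtype.ext (e8_eq i).symm, word1_smul]

theorem toFun_negList : ∀ i : GolayPt, toFun (negList (e8List (idx i))) = fun j => -toFun (e8List (idx i)) j := by
  decide +kernel

theorem central_spec {w : List ℕ} (h : central w = true) : word1 w = 1 ∨ word1 w = negEl := by
  simp only [central, Bool.or_eq_true, List.all_eq_true, List.mem_range, beq_iff_eq] at h
  rcases h with h | h
  · exact Or.inl (co0_ext fun i => Subtype.ext (by rw [word1_e8, h _ (idx_lt i), e8_eq, one_smul]))
  · refine Or.inr (co0_ext fun i => Subtype.ext ?_)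
    rw [word1_e8, h _ (idx_lt i), toFun_negList, negEl_apply, AddSubgroup.coe_neg]
    funext j
    rw [Pi.neg_apply, e8_eq]

theorem notCentral_spec {w : List ℕ} (h : notCentral w = true) : word1 w ≠ 1 ∧ word1 w ≠ negEl := by
  simp only [notCentral, List.any_eq_true, Bool.and_eq_true, List.mem_range, bne_iff_ne] at h
  obtain ⟨⟨i, hi, j, hj, h1⟩, k, hk, l, hl, h2⟩ := h
  have key : ∀ i < 24, ∀ m < 24, (wordList1 w (e8List i)).getD m 0 =
      ((word1 w • e8 (pt i) : ↥leechLattice) : GolayPt → ℤ) (pt m) := fun i hi m hm => by
    rw [word1_e8, idx_pt hi]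
    simp only [toFun, idx_pt hm]
  constructor
  · intro e
    refine h1 ?_
    rw [key i hi j hj, e, one_smul, ← e8_list i hi]
    simp only [toFun, idx_pt hj]
  · intro e
    refine h2 ?_
    rw [key k hk l hl, e, negEl_apply, AddSubgroup.coe_neg, Pi.neg_apply, ← e8_list k hk]
    simp only [toFun, idx_pt hl]

/-- The rotated dodecads, and the whole set. -/
def dodMask (k : ℕ) : ℕ :=
  if k = 23 then 16777215 else
    ((List.range 24).map fun i => if dodNat.testBit (rotSrc k i) then 2 ^ i else 0).sum

theorem dodMask_ok : (∀ k < 23, ∀ i : GolayPt,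
    (dodMask k).testBit (idx i) = dodNat.testBit (rotSrc k (idx i))) ∧
    ∀ i : GolayPt, (dodMask 23).testBit (idx i) = true := by decide +kernel

end Cfsg.Agent.FGS4.ConwayOut.Co1
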