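import Cfsg.Agent.FGS4.ConwayOut.Transfer

/-!
# A subgroup containing the point stabiliser `M₂₃`
-/

set_option autoImplicit false
set_option maxRecDepth 20000

namespace Cfsg.Agent.FGS4.ConwayOut

open Cfsg Cfsg.Agent Cfsg.Agent.Golay
open scoped Pointwise

theorem M23_divisors : (∀ i < 129, 128 % i = 0 → i ∈ [1, 2, 4, 8, 16, 32, 64, 128]) ∧
    (∀ j < 10, 9 % j = 0 → j ∈ [1, 3, 9]) ∧ ∀ l < 36, 35 % l = 0 → l ∈ [1, 5, 7, 35] := by decide +kernel

theorem M23_arith : ∀ i ∈ [1, 2, 4, 8, 16, 32, 64, 128], ∀ j ∈ [1, 3, 9], ∀ l ∈ [1, 5, 7, 35],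
    253 * (i * (j * l)) / 253 % 23 = 1 →
    (∃ n ∈ [11, 55], 253 * (i * (j * l)) % n = 0 ∧ 253 * (i * (j * l)) / n % 11 = 1) →
    253 * (i * (j * l)) = 253 ∨ 253 * (i * (j * l)) = 10200960 := by decide +kernel

theorem x23_normalises : y23 * x23 * y23⁻¹ ∈ Subgroup.zpowers x23 := by
  have e : (permOf mul2Code) * shiftPerm * (permOf mul2Code)⁻¹ = shiftPerm ^ 2 := by
    have hok := permOK_of_isAut mul2_aut.1
    have hd : ∀ i : GolayPt, permFun mul2Code (shiftPerm i) = shiftPerm (shiftPerm (permFun mul2Code i)) := by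
      decide +kernel
    rw [mul_inv_eq_iff_eq_mul]
    refine Equiv.ext fun i => ?_
    rw [Equiv.Perm.mul_apply, permOf_apply hok, hd]
    rw [← permOf_apply hok i, sq]
    rfl
  exact ⟨2, by
    refine Subtype.ext ?_
    show _ = permOf mul2Code * shiftPerm * (permOf mul2Code)⁻¹
    rw [e]
    rfl⟩

/-- The elements fixing the first frame vector form all of `M₂₃`, given one of them which is not affine. -/
theorem stab_card (hS : Subgroup ↥S23) (hx : x23 ∈ hS) (hy : y23 ∈ hS) (σ : ↥S23) (hσ : σ ∈ hS)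
    {j₀ j₁ j₂ : ℕ} (h0 : σ.1 (pt 0) = pt j₀) (h1 : σ.1 (pt 1) = pt j₁) (h2 : σ.1 (pt 2) = pt j₂)
    (hlt : j₀ < 23 ∧ j₁ < 23 ∧ j₂ < 23) (hne : (j₂ + j₀) % 23 ≠ (j₁ + j₁) % 23) :
    Nat.card hS = 10200960 := by
  haveI := Fact.mk (by norm_num : Nat.Prime 23)
  haveI := Fact.mk (by norm_num : Nat.Prime 11)
  have hcard : Nat.card ↥S23 = 10200960 := M24_stab_card none
  have hd : Nat.card hS ∣ 10200960 := hcard ▸ Subgroup.card_subgroup_dvd_card hS
  have hox : orderOf x23 = 23 := (orderOf_injective _ emb23_injective x23).symm.trans orderOf_xEl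
  have hoy : orderOf y23 = 11 := (orderOf_injective _ emb23_injective y23).symm.trans orderOf_yEl
  set NX := Subgroup.normalizer ((Subgroup.zpowers x23 : Subgroup ↥S23) : Set ↥S23)
  set NY := Subgroup.normalizer ((Subgroup.zpowers y23 : Subgroup ↥S23) : Set ↥S23)
  have hyN : y23 ∈ NX := Subgroup.mem_normalizer_iff_map_conj_eq.2 (Subgroup.eq_of_le_of_card_ge (by
    rw [MonoidHom.map_zpowers]
    exact Subgroup.zpowers_le.2 x23_normalises)
    (by rw [Subgroup.card_map_of_injective (MulAut.conj _).injective]))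
  have hxN : x23 ∈ NX := Subgroup.le_normalizer (Subgroup.mem_zpowers _)
  have hnotN : σ ∉ NX := by
    intro hN
    have hmem := (Subgroup.mem_normalizer_iff.1 hN x23).1 (Subgroup.mem_zpowers _)
    obtain ⟨a, ha⟩ := Subgroup.mem_zpowers_iff.1 hmem
    rw [← zpow_mod_orderOf, hox] at ha
    obtain ⟨b, hb⟩ : ∃ b : ℕ, (b : ℤ) = a % (23 : ℕ) :=
      ⟨(a % (23 : ℕ)).toNat, Int.toNat_of_nonneg (Int.emod_nonneg a (by norm_num))⟩
    rw [← hb, zpow_natCast] at ha
    have hb23 : b < 23 := by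
      have := Int.emod_lt_of_pos a (show (0 : ℤ) < (23 : ℕ) by norm_num)
      omega
    have step : ∀ p : GolayPt, σ.1 (shiftPerm p) = (shiftPerm ^ b) (σ.1 p) := fun p => by
      have e : x23 ^ b * σ = σ * x23 := by rw [ha]; group
      exact (congrArg (fun u : ↥S23 => (u : Equiv.Perm GolayPt) p) e).symm
    have hpow : ∀ j < 23, ∀ b < 23, (shiftPerm ^ b) (pt j) = pt ((j + b) % 23) := by
      intro j hj b _
      induction b with
      | zero => rw [pow_zero, add_zero, Nat.mod_eq_of_lt hj]; rfl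
      | succ b ih =>
        have hs : ∀ k < 23, shiftPerm (pt k) = pt ((k + 1) % 23) := by decide +kernel
        rw [pow_succ', Equiv.Perm.mul_apply, ih (by omega), hs _ (Nat.mod_lt _ (by norm_num))]
        congr 1
        omega
    have hinj : ∀ u < 23, ∀ v < 23, pt u = pt v → u = v := fun u hu v hv e => by
      have := congrArg idx e
      rwa [idx_pt (by omega), idx_pt (by omega)] at this
    have e1 := step (pt 0)
    have e2 := step (pt 1)
    rw [show shiftPerm (pt 0) = pt 1 by decide +kernel, h0, h1, hpow _ hlt.1 b hb23] at e1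
    rw [show shiftPerm (pt 1) = pt 2 by decide +kernel, h1, h2, hpow _ hlt.2.1 b hb23] at e2
    have r1 := hinj _ hlt.2.1 _ (Nat.mod_lt _ (by norm_num)) e1
    have r2 := hinj _ hlt.2.2 _ (Nat.mod_lt _ (by norm_num)) e2
    omega
  obtain ⟨-, b, c⟩ := HSOut.count_normalizer (p := 23) (P := Subgroup.zpowers x23) (K := hS)
    (by rw [Nat.card_zpowers, hox]) (Subgroup.zpowers_le.2 hx)
    fun e => by have := e.trans hd; norm_num at this
  have hNX : Nat.card (NX ⊓ hS : Subgroup ↥S23) = 253 := by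
    refine Nat.dvd_antisymm (normalizer_x23_card ▸ Subgroup.card_dvd_of_le inf_le_left)
      (Nat.Coprime.mul_dvd_of_dvd_of_dvd (m := 23) (n := 11) (by norm_num) ?_ ?_)
    · rw [← hox, ← Subgroup.orderOf_mk (H := NX ⊓ hS) x23 ⟨hxN, hx⟩]; exact orderOf_dvd_natCard _
    · rw [← hoy, ← Subgroup.orderOf_mk (H := NX ⊓ hS) y23 ⟨hyN, hy⟩]; exact orderOf_dvd_natCard _
  rw [hNX] at b c
  obtain ⟨-, b', c'⟩ := HSOut.count_normalizer (p := 11) (P := Subgroup.zpowers y23) (K := hS)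
    (by rw [Nat.card_zpowers, hoy]) (Subgroup.zpowers_le.2 hy)
    fun e => by have := e.trans hd; norm_num at this
  let ι : Spor.M22 →* ↥S23 :=
    { toFun := fun m => ⟨m.1, (SingleBlock.M22.mem_M22.1 m.2).1, (SingleBlock.M22.mem_M22.1 m.2).2.1⟩
      map_one' := rfl
      map_mul' := fun _ _ => rfl }
  have hι : Function.Injective ι := fun a b h => Subtype.ext (congrArg (fun u : ↥S23 => (u : Equiv.Perm GolayPt)) h)
  have h55 : Nat.card (NY ⊓ hS : Subgroup ↥S23) ∣ 55 := by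
    have hle : NY ⊓ hS ≤ (Subgroup.normalizer ((Subgroup.zpowers y22 : Subgroup Spor.M22) : Set Spor.M22)).map ι := by
      rintro τ ⟨hτ, -⟩
      obtain ⟨m, hm22, e⟩ := exists_M22 hτ
      exact ⟨m, hm22, Subtype.ext e⟩
    have := Subgroup.card_dvd_of_le hle
    rwa [Subgroup.card_map_of_injective hι, normalizer_y22] at this
  have h11 : 11 ∣ Nat.card (NY ⊓ hS : Subgroup ↥S23) := by
    rw [← hoy, ← Subgroup.orderOf_mk (H := NY ⊓ hS) y23 ⟨Subgroup.le_normalizer (Subgroup.mem_zpowers _), hy⟩]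
    exact orderOf_dvd_natCard _
  have hn : Nat.card (NY ⊓ hS : Subgroup ↥S23) ∈ [11, 55] := by
    have hall : ∀ n < 56, n % 11 = 0 → 55 % n = 0 → n ∈ [11, 55] := by decide +kernel
    exact hall _ (Nat.lt_succ_of_le (Nat.le_of_dvd (by norm_num) h55)) (Nat.mod_eq_zero_of_dvd h11)
      (Nat.mod_eq_zero_of_dvd h55)
  obtain ⟨k, hk⟩ := b
  have hk' : k ∣ 128 * (9 * 35) := (Nat.mul_dvd_mul_iff_left (by norm_num : 0 < 253)).1
    (hk ▸ hd : 253 * k ∣ 253 * (128 * (9 * 35)))
  obtain ⟨i, j, l, hi, hj, hl, rfl⟩ := dvd_triple hk'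
  obtain ⟨d1, d2, d3⟩ := M23_divisors
  rcases M23_arith i (d1 _ (Nat.lt_succ_of_le (Nat.le_of_dvd (by norm_num) hi)) (Nat.mod_eq_zero_of_dvd hi))
      j (d2 _ (Nat.lt_succ_of_le (Nat.le_of_dvd (by norm_num) hj)) (Nat.mod_eq_zero_of_dvd hj))
      l (d3 _ (Nat.lt_succ_of_le (Nat.le_of_dvd (by norm_num) hl)) (Nat.mod_eq_zero_of_dvd hl))
      (hk ▸ c) ⟨_, hn, hk ▸ Nat.mod_eq_zero_of_dvd b', hk ▸ c'⟩ with h | h
  · exfalso
    refine hnotN ?_
    have e : NX ⊓ hS = hS := Subgroup.eq_of_le_of_card_ge inf_le_right (by rw [hNX, hk, h])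
    exact (e.symm ▸ hσ : σ ∈ NX ⊓ hS).1
  · rw [hk, h]

variable {t : ℤ} {hm : peakVec none t ∈ leechLattice}

/-- A word fixing the first frame vector but no affine map gives the whole of `M₂₃`. -/
theorem card_eq_orbit_mul (D : Data t) (ht : 1 < t ∨ t < -1) {H : Subgroup ↥Co0} (hH : H ≤ PG t hm) (hx : xEl ∈ H)
    (hy : yEl ∈ H) (hel : D.el ∈ H) (u : List ℕ) (hu : u.all (· < 57) = true)
    (hfix : wordList D.A u (e8List 23) = e8List 23) {j₀ j₁ j₂ : ℕ}
    (h0 : wordList D.A u (e8List 0) = e8List j₀) (h1 : wordList D.A u (e8List 1) = e8List j₁)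
    (h2 : wordList D.A u (e8List 2) = e8List j₂)
    (hlt : j₀ < 23 ∧ j₁ < 23 ∧ j₂ < 23) (hne : (j₂ + j₀) % 23 ≠ (j₁ + j₁) % 23) :
    Nat.card H = (MulAction.orbit H (e8 none)).ncard * 10200960 := by
  haveI := co0_finite
  simp only [List.all_eq_true, decide_eq_true_eq] at hu
  have hg : wordEl D.el u ∈ H := word_mem hel hx hy u
  have happ : ∀ i j : ℕ, i < 24 → j < 24 → wordList D.A u (e8List i) = e8List j →
      wordEl D.el u • e8 (pt i) = e8 (pt j) := by
    intro i j hi hj h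
    have ei := e8_eq (pt i)
    have ej := e8_eq (pt j)
    rw [idx_pt hi] at ei
    rw [idx_pt hj] at ej
    have hmem : toFun (e8List i) ∈ leechLattice := ei ▸ (e8 (pt i)).2
    have := word_smul D.hA u hu (e8List i) hmem
    rw [h, ej] at this
    rw [show e8 (pt i) = ⟨toFun (e8List i), hmem⟩ from Subtype.ext ei.symm]
    exact Subtype.ext this
  have h23 : wordEl D.el u • e8 none = e8 none := by
    simpa [show pt 23 = (none : GolayPt) by decide +kernel] using happ 23 23 (by norm_num) (by norm_num) hfix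
  obtain ⟨σ, hσ⟩ := exists_emb23 ht (hH hg) h23
  have hperm : ∀ i j : ℕ, i < 24 → j < 24 → wordList D.A u (e8List i) = e8List j → σ.1 (pt i) = pt j := by
    intro i j hi hj h
    have e := congrArg (fun v : ↥leechLattice => (v : GolayPt → ℤ) (pt j)) (happ i j hi hj h)
    rw [← hσ] at e
    change ((monoEl σ.1 σ.2.1 ∅ empty_mem_supports • e8 (pt i) : ↥leechLattice) : GolayPt → ℤ) (pt j) =
      (Pi.single (pt j) 8 : GolayPt → ℤ) (pt j) at e
    rw [monoEl_apply, signedPerm_eq, sgnOf, if_neg (Finset.notMem_empty _), one_mul, Pi.single_eq_same] at e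
    by_contra hne'
    have hz : (Pi.single (pt i) 8 : GolayPt → ℤ) (σ.1.symm (pt j)) = 0 :=
      Pi.single_eq_of_ne (fun e' => hne' (by rw [← e', Equiv.apply_symm_apply])) _
    rw [show ((e8 (pt i) : ↥leechLattice) : GolayPt → ℤ) = Pi.single (pt i) 8 from rfl, hz] at e
    norm_num at e
  have hS := stab_card (H.comap emb23) (by rwa [Subgroup.mem_comap, emb23_x])
    (by rwa [Subgroup.mem_comap, emb23_y]) σ (by rwa [Subgroup.mem_comap, hσ])
    (hperm 0 j₀ (by norm_num) (by omega) h0) (hperm 1 j₁ (by norm_num) (by omega) h1)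
    (hperm 2 j₂ (by norm_num) (by omega) h2) hlt hne
  have hc : Nat.card (MulAction.stabilizer H (e8 none)) = 10200960 := by
    rw [← hS]
    refine (Nat.card_eq_of_bijective (fun τ : H.comap emb23 => (⟨⟨emb23 τ.1, τ.2⟩,
      (monoEl_e8 τ.1.1 τ.1.2.1 ∅ empty_mem_supports).2 ⟨τ.1.2.2, Finset.notMem_empty _⟩⟩ :
      MulAction.stabilizer H (e8 none))) ⟨?_, ?_⟩).symm
    · exact fun a b e => Subtype.ext (emb23_injective
        (congrArg (fun v : MulAction.stabilizer H (e8 none) => ((v : H) : ↥Co0)) e))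
    · rintro ⟨⟨g, hgH⟩, hge⟩
      obtain ⟨τ, hτ⟩ := exists_emb23 ht (hH hgH) hge
      exact ⟨⟨τ, by rwa [Subgroup.mem_comap, hτ]⟩, Subtype.ext (Subtype.ext hτ)⟩
  rw [← hc, ← MulAction.index_stabilizer, mul_comm, Subgroup.card_mul_index]

/-- The orbit of the frame vector is at least as large as the tree. -/
theorem orbit_frame_bound (D : Data t) {H : Subgroup ↥Co0} (hx : xEl ∈ H) (hel : D.el ∈ H) {R : List Entry}
    {root : List ℤ} {k : ℕ} (hk : k < 23) (hroot : rotList k (matList D.A (e8List 23)) = root)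
    (hmem : toFun root ∈ leechLattice) (hR : orbitOK D.A R root = true) :
    23 * R.length ≤ (MulAction.orbit H (e8 none)).ncard := by
  have e8n : toFun (e8List 23) = (e8 none : GolayPt → ℤ) := e8_eq none
  have he : ((D.el • e8 none : ↥leechLattice) : GolayPt → ℤ) = toFun (matList D.A (e8List 23)) := by
    rw [Data.el, matEl_apply, ← e8n, matFun_toFun]
  have hm1 : toFun (matList D.A (e8List 23)) ∈ leechLattice := he ▸ Subtype.prop _
  have e : (xEl ^ k * D.el) • e8 none = (⟨toFun root, hmem⟩ : ↥leechLattice) := by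
    rw [mul_smul, show D.el • e8 none = ⟨_, hm1⟩ from Subtype.ext he]
    refine Subtype.ext ?_
    rw [xEl_smul k hk _ hm1, hroot]
  have horb : MulAction.orbit H (⟨toFun root, hmem⟩ : ↥leechLattice) = MulAction.orbit H (e8 none) := by
    rw [MulAction.orbit_eq_iff]
    exact ⟨⟨xEl ^ k * D.el, mul_mem (pow_mem hx _) hel⟩, e⟩
  exact horb ▸ orbit_bound D.hA hR hmem hel hx

end Cfsg.Agent.FGS4.ConwayOut
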