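import Cfsg.Agent.Golay.LeechEta
import Cfsg.Agent.Golay.LeechStab
import Cfsg.Agent.Golay.Mathieu

/-!
# Lattice automorphisms given by integer matrices, with a list model
-/

set_option autoImplicit false
set_option maxRecDepth 20000

namespace Cfsg.Agent.FGS4.ConwayOut

open Cfsg Cfsg.Agent.Golay
open scoped Pointwise

/-- The vector with the listed coordinates. -/
def toFun (l : List ℤ) : GolayPt → ℤ := fun i => l.getD (idx i) 0

/-- The listed coordinates of a vector. -/
def toList (f : GolayPt → ℤ) : List ℤ := (List.range 24).map fun i => f (pt i)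

theorem toFun_toList (f : GolayPt → ℤ) : toFun (toList f) = f := funext fun i => by
  simp [toFun, toList, List.getD_eq_getElem?_getD, idx_lt i, pt_idx]

theorem sum_golay (f : GolayPt → ℤ) : ∑ i, f i = ((List.range 24).map fun j => f (pt j)).sum := by
  have e : (Finset.univ : Finset GolayPt) = (List.range 24).toFinset.image pt := by decide +kernel
  rw [← List.sum_toFinset _ List.nodup_range, e, Finset.sum_image]
  intro a ha b hb h
  simp only [List.coe_toFinset, List.mem_range, Set.mem_ofPred_eq] at ha hb
  have := congrArg idx h
  rwa [idx_pt ha, idx_pt hb] at this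

/-- The linear map attached to eight times a rational matrix, given by its rows. -/
def matFun (A : List (List ℤ)) (x : GolayPt → ℤ) : GolayPt → ℤ :=
  fun i => ((List.range 24).map fun j => (A.getD (idx i) []).getD j 0 * x (pt j)).sum / 8

/-- The first twenty-four entries, filled up. -/
def pad {α : Type*} (d : α) (v : List α) : List α := (v ++ List.replicate 24 d).take 24

theorem pad_eq {α : Type*} (d : α) (v : List α) : pad d v = (List.range 24).map fun j => v.getD j d := by
  refine List.ext_getElem (by simp [pad]) fun i h1 h2 => ?_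
  have hi : i < 24 := by simpa using h2
  simp only [pad, List.getElem_take, List.getElem_map, List.getElem_range, List.getD_eq_getElem?_getD]
  rw [List.getElem_append]
  split_ifs with h
  · simp [h]
  · rw [List.getElem_replicate]; simp [h]

/-- The same map on lists. -/
def matList (A : List (List ℤ)) (v : List ℤ) : List ℤ :=
  (pad [] A).map fun r => (List.zipWith (· * ·) (pad 0 r) (pad 0 v)).sum / 8

theorem matList_eq (A : List (List ℤ)) (v : List ℤ) : matList A v =
    (List.range 24).map fun i => ((List.range 24).map fun j => (A.getD i []).getD j 0 * v.getD j 0).sum / 8 := by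
  simp only [matList, pad_eq, List.map_map, List.zipWith_map_left, List.zipWith_map_right, List.zipWith_self,
    Function.comp_def]

theorem matFun_toFun (A : List (List ℤ)) (v : List ℤ) : matFun A (toFun v) = toFun (matList A v) := by
  funext i
  simp only [matFun, matList_eq, toFun, List.getD_eq_getElem?_getD, List.getElem?_map,
    List.getElem?_range (idx_lt i), Option.map_some, Option.getD_some]
  congr 2

/-- The numerator of the map. -/
def matNum (A : List (List ℤ)) (x : GolayPt → ℤ) (i : GolayPt) : ℤ :=
  ∑ j, (A.getD (idx i) []).getD (idx j) 0 * x j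

theorem matFun_eq (A : List (List ℤ)) (x : GolayPt → ℤ) (i : GolayPt) :
    matFun A x i = matNum A x i / 8 := by
  rw [matFun, matNum, sum_golay]
  congr 2

/-- The check: an orthogonal involution carrying the generators into the lattice. -/
def matOK (A : List (List ℤ)) : Bool :=
  ((List.range 24).all fun i => (List.range 24).all fun j =>
    (A.getD i []).getD j 0 == (A.getD j []).getD i 0 &&
    ((List.range 24).map fun k => (A.getD i []).getD k 0 * (A.getD k []).getD j 0).sum ==
      (if i = j then 64 else 0)) &&
  genVecs.all fun v => ((List.range 24).all fun i => decide ((8 : ℤ) ∣ matNum A v (pt i))) &&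
    leechTest (toFun (matList A (toList v)))

theorem matNum_add (A : List (List ℤ)) (x y : GolayPt → ℤ) (i : GolayPt) :
    matNum A (x + y) i = matNum A x i + matNum A y i := by
  simp only [matNum, Pi.add_apply, mul_add, Finset.sum_add_distrib]

variable {A : List (List ℤ)}

theorem symm_entry (h : matOK A = true) (i j : GolayPt) :
    (A.getD (idx i) []).getD (idx j) 0 = (A.getD (idx j) []).getD (idx i) 0 := by
  simp only [matOK, Bool.and_eq_true, List.all_eq_true, List.mem_range, beq_iff_eq] at h
  exact (h.1 _ (idx_lt i) _ (idx_lt j)).1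

theorem square_entry (h : matOK A = true) (i j : GolayPt) :
    ∑ k, (A.getD (idx i) []).getD (idx k) 0 * (A.getD (idx k) []).getD (idx j) 0 = if i = j then 64 else 0 := by
  simp only [matOK, Bool.and_eq_true, List.all_eq_true, List.mem_range, beq_iff_eq] at h
  rw [sum_golay]
  refine Eq.trans ?_ ((h.1 _ (idx_lt i) _ (idx_lt j)).2.trans ?_)
  · refine congrArg List.sum (List.map_congr_left fun k hk => ?_)
    rw [idx_pt (List.mem_range.1 hk)]
  · simp only [idx_injective.eq_iff]

theorem matFun_props (h : matOK A = true) {x : GolayPt → ℤ} (hx : x ∈ leechLattice) :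
    (∀ i, 8 ∣ matNum A x i) ∧ matFun A x ∈ leechLattice := by
  refine AddSubgroup.closure_induction (fun v hv => ?_) ?_ (fun a b _ _ ha hb => ?_) (fun a _ ha => ?_)
    (leech_le_genSpan hx)
  · simp only [matOK, Bool.and_eq_true, List.all_eq_true, List.mem_range, decide_eq_true_eq] at h
    obtain ⟨h1, h2⟩ := h.2 v hv
    refine ⟨fun i => pt_idx i ▸ h1 _ (idx_lt i), ?_⟩
    have := leechTest_sound h2
    rwa [← matFun_toFun, toFun_toList] at this
  · refine ⟨fun i => by simp [matNum], ?_⟩
    convert zero_mem leechLattice
    funext i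
    simp [matFun_eq, matNum]
  · refine ⟨fun i => by rw [matNum_add]; exact dvd_add (ha.1 i) (hb.1 i), ?_⟩
    convert add_mem ha.2 hb.2
    funext i
    simp only [Pi.add_apply, matFun_eq, matNum_add, Int.add_ediv_of_dvd_left (ha.1 i)]
  · have e : ∀ i, matNum A (-a) i = -matNum A a i := fun i => by
      simp only [matNum, Pi.neg_apply, mul_neg, Finset.sum_neg_distrib]
    refine ⟨fun i => by rw [e]; exact dvd_neg.2 (ha.1 i), ?_⟩
    convert neg_mem ha.2
    funext i
    simp only [Pi.neg_apply, matFun_eq, e, Int.neg_ediv_of_dvd (ha.1 i)]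

theorem eight_mul_matFun (h : matOK A = true) {x : GolayPt → ℤ} (hx : x ∈ leechLattice) (i : GolayPt) :
    8 * matFun A x i = matNum A x i := by
  rw [matFun_eq, Int.mul_ediv_cancel' ((matFun_props h hx).1 i)]

theorem matFun_matFun (h : matOK A = true) {x : GolayPt → ℤ} (hx : x ∈ leechLattice) :
    matFun A (matFun A x) = x := by
  funext i
  have e : 8 * matNum A (matFun A x) i = 64 * x i := by
    simp only [matNum, Finset.mul_sum]
    calc ∑ j, 8 * ((A.getD (idx i) []).getD (idx j) 0 * matFun A x j)
        = ∑ j, ∑ k, ((A.getD (idx i) []).getD (idx j) 0 * (A.getD (idx j) []).getD (idx k) 0) * x k := by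
          refine Finset.sum_congr rfl fun j _ => ?_
          rw [mul_left_comm, eight_mul_matFun h hx, matNum, Finset.mul_sum]
          exact Finset.sum_congr rfl fun k _ => (mul_assoc _ _ _).symm
      _ = ∑ k, (if i = k then 64 else 0) * x k := by
          rw [Finset.sum_comm]
          exact Finset.sum_congr rfl fun k _ => by rw [← Finset.sum_mul, square_entry h]
      _ = 64 * x i := by simp
  rw [matFun_eq]
  omega

/-- The automorphism of a matrix. -/
def matEl (A : List (List ℤ)) (h : matOK A = true) : ↥Co0 :=
  co0Mk (matFun A) (matFun A) (fun _ hx => (matFun_props h hx).2) (fun _ hx => (matFun_props h hx).2)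
    (fun _ hx => matFun_matFun h hx) (fun _ hx => matFun_matFun h hx)
    (fun x hx y _ => funext fun i => by
      simp only [Pi.add_apply, matFun_eq, matNum_add, Int.add_ediv_of_dvd_left ((matFun_props h hx).1 i)])
    (fun x hx => by
      have key : ∀ i j, ∑ k, (A.getD (idx k) []).getD (idx i) 0 * (A.getD (idx k) []).getD (idx j) 0 =
          if i = j then 64 else 0 := fun i j => by
        rw [← square_entry h i j]
        exact Finset.sum_congr rfl fun k _ => by rw [symm_entry h k i]
      have e : 64 * sqNorm (matFun A x) = 64 * sqNorm x := by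
        simp only [sqNorm, Finset.mul_sum]
        calc ∑ k, 64 * matFun A x k ^ 2
            = ∑ k, ∑ i, ∑ j, ((A.getD (idx k) []).getD (idx i) 0 * (A.getD (idx k) []).getD (idx j) 0) *
                (x i * x j) := by
              refine Finset.sum_congr rfl fun k _ => ?_
              rw [show 64 * matFun A x k ^ 2 = (8 * matFun A x k) * (8 * matFun A x k) by ring,
                eight_mul_matFun h hx, matNum, Finset.sum_mul_sum]
              exact Finset.sum_congr rfl fun i _ => Finset.sum_congr rfl fun j _ => by ring
          _ = ∑ i, ∑ j, (if i = j then 64 else 0) * (x i * x j) := by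
              rw [Finset.sum_comm]
              refine Finset.sum_congr rfl fun i _ => ?_
              rw [Finset.sum_comm]
              exact Finset.sum_congr rfl fun j _ => by rw [← Finset.sum_mul, key]
          _ = ∑ i, 64 * x i ^ 2 := by simp [sq]
      omega)

theorem matEl_apply (h : matOK A = true) (a : ↥leechLattice) :
    ((matEl A h • a : ↥leechLattice) : GolayPt → ℤ) = matFun A a := rfl

theorem matEl_mul_self (h : matOK A = true) : matEl A h * matEl A h = 1 := co0_ext fun i => Subtype.ext (by
  rw [mul_smul, one_smul, matEl_apply, matEl_apply, matFun_matFun h (e8 i).2])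

/-- The rotation of the projective line. -/
def shiftPerm : Equiv.Perm GolayPt := Equiv.optionCongr (Equiv.addRight (1 : ZMod 23))

theorem shiftPerm_mem : shiftPerm ∈ M24 := shift_mem

/-- The element of order twenty-three. -/
def xEl : ↥Co0 := monoEl shiftPerm shiftPerm_mem ∅ empty_mem_supports

/-- The index sent to a given index by the rotation. -/
def rotSrc (k i : ℕ) : ℕ := if i = 23 then 23 else (i + 23 - k % 23) % 23

/-- Rotation of the first 23 entries. -/
def rotRaw {α : Type*} (k : ℕ) (l : List α) : List α :=
  (l.take 23).drop ((23 - k % 23) % 23) ++ (l.take 23).take ((23 - k % 23) % 23) ++ l.drop 23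

/-- Rotation of a list. -/
def rotList (k : ℕ) (v : List ℤ) : List ℤ := rotRaw k (pad 0 v)

theorem rotRaw_range : ∀ k < 23, rotRaw k (List.range 24) = (List.range 24).map (rotSrc k) := by decide +kernel

theorem rotList_eq (k : ℕ) (v : List ℤ) : rotList k v = (List.range 24).map fun i => v.getD (rotSrc k i) 0 := by
  have h1 : rotRaw k (List.range 24) = (List.range 24).map (rotSrc k) := by
    have h := rotRaw_range (k % 23) (Nat.mod_lt _ (by norm_num))
    rw [show rotSrc (k % 23) = rotSrc k from funext fun i => by simp [rotSrc]] at h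
    simpa [rotRaw] using h
  have h2 : ∀ (f : ℕ → ℤ) (l : List ℕ), rotRaw k (l.map f) = (rotRaw k l).map f := fun f l => by
    simp [rotRaw, List.map_drop, List.map_take]
  rw [rotList, pad_eq, h2, h1, List.map_map]
  rfl

theorem rotSrc_ok : ∀ k < 23, ∀ i : GolayPt, pt (rotSrc k (idx i)) = (shiftPerm ^ k).symm i := by
  decide +kernel

theorem xEl_smul (k : ℕ) (hk : k < 23) (v : List ℤ) (hv : toFun v ∈ leechLattice) :
    ((xEl ^ k • (⟨toFun v, hv⟩ : ↥leechLattice) : ↥leechLattice) : GolayPt → ℤ) = toFun (rotList k v) := by
  rw [xEl, monoEl_pow, monoEl_apply]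
  funext i
  rw [signedPerm_eq, sgnOf, if_neg (Finset.notMem_empty i), one_mul, ← rotSrc_ok k hk i]
  have hlt : rotSrc k (idx i) < 24 := by
    unfold rotSrc
    have := Nat.mod_lt (idx i + 23 - k % 23) (show 0 < 23 by norm_num)
    split_ifs <;> omega
  simp only [toFun, rotList_eq, List.getD_eq_getElem?_getD, List.getElem?_map,
    List.getElem?_range (idx_lt i), Option.map_some, Option.getD_some, idx_pt hlt]

/-- Multiplication by two on the projective line. -/
noncomputable def yEl : ↥Co0 := monoEl (permOf mul2Code) (permOf_mem_M24 mul2_aut.1) ∅ empty_mem_supports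

/-- The index sent to a given index by a power of the multiplication. -/
def mulSrc (k i : ℕ) : ℕ := if i = 23 then 23 else i * 12 ^ k % 23

/-- Multiplication of a list. -/
def mulList (k : ℕ) (v : List ℤ) : List ℤ := (List.range 24).map fun i => v.getD (mulSrc k i) 0

theorem mulSrc_step : ∀ i : GolayPt, ∀ k < 34, pt (mulSrc k (idx (permFun mul2Code i))) =
    (if k = 0 then permFun mul2Code i else pt (mulSrc (k - 1) (idx i))) := by
  decide +kernel

theorem mul2_pow_symm (k : ℕ) (hk : k < 34) (i : GolayPt) :
    (permOf mul2Code ^ k).symm i = pt (mulSrc k (idx i)) := by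
  have hok := permOK_of_isAut mul2_aut.1
  induction k generalizing i with
  | zero =>
    obtain ⟨j, rfl⟩ := (permOf mul2Code).surjective i
    rw [permOf_apply hok, mulSrc_step j 0 hk, if_pos rfl, pow_zero]
    rfl
  | succ k ih =>
    obtain ⟨j, rfl⟩ := (permOf mul2Code).surjective i
    have e := ih (by omega) j
    rw [Equiv.symm_apply_eq] at e ⊢
    rw [permOf_apply hok, mulSrc_step j (k + 1) hk, if_neg (by omega), Nat.add_sub_cancel, pow_succ',
      Equiv.Perm.mul_apply, ← e, permOf_apply hok]

theorem yEl_smul (k : ℕ) (hk : k < 34) (v : List ℤ) (hv : toFun v ∈ leechLattice) :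
    ((yEl ^ k • (⟨toFun v, hv⟩ : ↥leechLattice) : ↥leechLattice) : GolayPt → ℤ) = toFun (mulList k v) := by
  rw [yEl, monoEl_pow, monoEl_apply]
  funext i
  rw [signedPerm_eq, sgnOf, if_neg (Finset.notMem_empty i), one_mul, mul2_pow_symm k hk i]
  have hlt : mulSrc k (idx i) < 24 := by
    unfold mulSrc
    split_ifs <;> omega
  simp only [toFun, mulList, List.getD_eq_getElem?_getD, List.getElem?_map,
    List.getElem?_range (idx_lt i), Option.map_some, Option.getD_some, idx_pt hlt]

/-- The value of a letter: `0` is the matrix, the next 22 the rotations, then the multiplications. -/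
noncomputable def letterEl (t : ↥Co0) (k : ℕ) : ↥Co0 :=
  if k = 0 then t else if k < 23 then xEl ^ k else yEl ^ (k - 23)

/-- The value of a word. -/
noncomputable def wordEl (t : ↥Co0) : List ℕ → ↥Co0
  | [] => 1
  | k :: w => letterEl t k * wordEl t w

/-- The action of a word on lists. -/
def wordList (A : List (List ℤ)) : List ℕ → List ℤ → List ℤ
  | [], v => v
  | k :: w, v => if k = 0 then matList A (wordList A w v) else
      if k < 23 then rotList k (wordList A w v) else mulList (k - 23) (wordList A w v)

theorem word_smul (h : matOK A = true) (w : List ℕ) (hw : ∀ k ∈ w, k < 57) (v : List ℤ)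
    (hv : toFun v ∈ leechLattice) :
    ((wordEl (matEl A h) w • (⟨toFun v, hv⟩ : ↥leechLattice) : ↥leechLattice) : GolayPt → ℤ) =
      toFun (wordList A w v) := by
  induction w with
  | nil => rw [wordEl, one_smul]; rfl
  | cons k w ih =>
    have ih' := ih fun l hl => hw l (List.mem_cons_of_mem _ hl)
    have hmem : toFun (wordList A w v) ∈ leechLattice := ih' ▸ Subtype.prop _
    have e : wordEl (matEl A h) w • (⟨toFun v, hv⟩ : ↥leechLattice) = ⟨toFun (wordList A w v), hmem⟩ :=
      Subtype.ext ih'
    rw [wordEl, mul_smul, e, wordList, letterEl]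
    by_cases hk : k = 0
    · rw [if_pos hk, if_pos hk, matEl_apply]
      exact matFun_toFun A _
    rw [if_neg hk, if_neg hk]
    by_cases hk' : k < 23
    · rw [if_pos hk', if_pos hk', xEl_smul k hk']
    · rw [if_neg hk', if_neg hk', yEl_smul _ (by have := hw k List.mem_cons_self; omega)]

/-- Eight times a basis vector as a list. -/
def e8List (i : ℕ) : List ℤ := (List.range 24).map fun j => if j = i then 8 else 0

theorem toFun_e8List : ∀ i : GolayPt, ∀ j : GolayPt, toFun (e8List (idx i)) j = if j = i then 8 else 0 := by
  decide +kernel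

theorem e8_eq (i : GolayPt) : toFun (e8List (idx i)) = (e8 i : GolayPt → ℤ) := funext fun j => by
  rw [toFun_e8List]
  show _ = (Pi.single i 8 : GolayPt → ℤ) j
  rw [Pi.single_apply]

/-- A word kills every frame vector. -/
def wordTriv (A : List (List ℤ)) (w : List ℕ) : Bool :=
  w.all (· < 57) && (List.range 24).all fun i => wordList A w (e8List i) == e8List i

theorem wordEl_eq_one (h : matOK A = true) {w : List ℕ} (hw : wordTriv A w = true) :
    wordEl (matEl A h) w = 1 := by
  simp only [wordTriv, Bool.and_eq_true, List.all_eq_true, decide_eq_true_eq, List.mem_range, beq_iff_eq] at hw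
  refine co0_ext fun i => Subtype.ext ?_
  rw [one_smul]
  have hm : toFun (e8List (idx i)) ∈ leechLattice := e8_eq i ▸ (e8 i).2
  have := word_smul h w hw.1 _ hm
  rw [hw.2 _ (idx_lt i)] at this
  rw [show e8 i = ⟨toFun (e8List (idx i)), hm⟩ from Subtype.ext (e8_eq i).symm]
  exact this

/-- A word moves some frame vector. -/
def wordMoves (A : List (List ℤ)) (w : List ℕ) : Bool :=
  w.all (· < 57) && (List.range 24).any fun i => (List.range 24).any fun j =>
    (wordList A w (e8List i)).getD j 0 != (e8List i).getD j 0

theorem wordEl_ne_one (h : matOK A = true) {w : List ℕ} (hw : wordMoves A w = true) :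
    wordEl (matEl A h) w ≠ 1 := by
  simp only [wordMoves, Bool.and_eq_true, List.all_eq_true, List.any_eq_true, decide_eq_true_eq,
    List.mem_range, bne_iff_ne] at hw
  obtain ⟨hlt, i, hi, j, hj, hne⟩ := hw
  intro e
  have hm : toFun (e8List i) ∈ leechLattice := by rw [← idx_pt hi, e8_eq]; exact (e8 _).2
  have := congrFun (word_smul h w hlt _ hm) (pt j)
  rw [e, one_smul] at this
  simp only [toFun, idx_pt hj] at this
  exact hne this.symm

/-- Membership of the lattice is detected by the test. -/
theorem leechTest_complete {x : GolayPt → ℤ} (h : x ∈ leechLattice) : leechTest x = true := by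
  obtain ⟨m, y, hm, hy, hw, hs⟩ := (mem_leech_iff.1 h).normalize
  have h0 : x none % 2 = m := by have := hy none; omega
  have hy' : ∀ i, (x i - x none % 2) / 2 = y i := fun i => by rw [h0]; have := hy i; omega
  simp only [leechTest, Bool.and_eq_true, decide_eq_true_eq]
  refine ⟨⟨fun i => by rw [h0]; have := hy i; omega, ?_⟩, by rw [h0]; exact hs⟩
  rw [mem_code_iff_support, support₂_red2, mem_supports_iff] at hw
  simp only [hy']
  exact hw

end Cfsg.Agent.FGS4.ConwayOut
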