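import Cfsg.Agent.FGS4.ConwayOut.Lists
import Cfsg.Agent.FGS4.HSOut.M22Index
import Cfsg.Agent.Golay.LeechStabSimple

/-!
# Local structure of a point stabiliser at the primes 11 and 23
-/

set_option autoImplicit false
set_option maxRecDepth 20000

namespace Cfsg.Agent.FGS4.ConwayOut

open Cfsg Cfsg.Agent Cfsg.Agent.Golay
open scoped Pointwise
open Cfsg.Agent.FGS4.SingleBlock

/-- The vector that is `t` at the extra point and one elsewhere. -/
def peakList (t : ℤ) : List ℤ := (List.range 24).map fun i => if i = 23 then t else 1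

theorem peakList_eq (t : ℤ) : toFun (peakList t) = peakVec none t := funext fun i => by
  have h : idx i = 23 ↔ i = none := ⟨fun e => idx_injective (e.trans rfl), fun e => e ▸ rfl⟩
  simp [toFun, peakList, peakVec, idx_lt i, h]

/-- Orbit labels of multiplication by two. -/
def cls2 (i : GolayPt) : ℕ :=
  if idx i = 23 then 0 else if idx i = 0 then 1 else if idx i ^ 11 % 23 = 1 then 2 else 3

/-- The vector with four given values on the four orbits. -/
def clsList (a b c d : ℤ) : List ℤ := (List.range 24).map fun i =>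
  if i = 23 then a else if i = 0 then b else if i ^ 11 % 23 = 1 then c else d

theorem cls2_orbits : ∀ i : GolayPt, i = none ∨ i = pt 0 ∨
    (∃ k < 11, pt (mulSrc k (idx i)) = pt 1 ∧ cls2 i = 2) ∨
    ∃ k < 11, pt (mulSrc k (idx i)) = pt 5 ∧ cls2 i = 3 := by decide +kernel

theorem cls2_list (a b c d : ℤ) (i : GolayPt) :
    toFun (clsList a b c d) i = if cls2 i = 0 then a else if cls2 i = 1 then b else if cls2 i = 2 then c else d := by
  have hi := idx_lt i
  simp only [toFun, clsList, cls2, List.getD_eq_getElem?_getD, List.getElem?_map, List.getElem?_range hi,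
    Option.map_some, Option.getD_some]
  by_cases h1 : idx i = 23
  · simp [h1]
  by_cases h2 : idx i = 0
  · simp [h2]
  by_cases h3 : idx i ^ 11 % 23 = 1 <;> simp [h1, h2, h3]

theorem cls2_counts : ∀ j < 4, (Finset.univ.filter fun i : GolayPt => cls2 i = j).card =
    if j < 2 then 1 else 11 := by decide +kernel

theorem cls2_lt : ∀ i : GolayPt, cls2 i < 4 := by decide +kernel

/-- The possible images of the first frame vector. -/
def solsOK (t : ℤ) (w : List ℤ) : Bool :=
  (List.range 17).all fun a => (List.range 17).all fun b => (List.range 5).all fun c => (List.range 5).all fun d =>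
    let a' : ℤ := (a : ℤ) - 8
    let b' : ℤ := (b : ℤ) - 8
    let c' : ℤ := (c : ℤ) - 2
    let d' : ℤ := (d : ℤ) - 2
    !(decide (a' * a' + b' * b' + 11 * (c' * c') + 11 * (d' * d') = 64) &&
        decide (t * a' + b' + 11 * c' + 11 * d' = 8 * t)) ||
      !(leechTest (toFun (clsList a' b' c' d'))) ||
      clsList a' b' c' d' == e8List 23 || clsList a' b' c' d' == w

theorem fixed_two {t : ℤ} {w : List ℤ} (hs : solsOK t w = true) {v : ↥leechLattice}
    (hy : yEl • v = v) (hn : sqNorm (v : GolayPt → ℤ) = 64)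
    (hd : dotInt (peakVec none t) (v : GolayPt → ℤ) = 8 * t) :
    v = e8 none ∨ (v : GolayPt → ℤ) = toFun w := by
  set f : GolayPt → ℤ := (v : GolayPt → ℤ) with hf
  have hyk : ∀ k : ℕ, yEl ^ k • v = v := fun k => by
    induction k with
    | zero => rw [pow_zero, one_smul]
    | succ k ih => rw [pow_succ, mul_smul, hy, ih]
  have hinv : ∀ k < 34, ∀ i, f (pt (mulSrc k (idx i))) = f i := fun k hk i => by
    have hmem : toFun (toList f) ∈ leechLattice := by rw [toFun_toList]; exact v.2
    have e := congrFun (yEl_smul k hk (toList f) hmem) i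
    rw [show (⟨toFun (toList f), hmem⟩ : ↥leechLattice) = v from Subtype.ext (toFun_toList f), hyk k] at e
    have hlt : mulSrc k (idx i) < 24 := by
      have := idx_lt i
      unfold mulSrc
      split_ifs <;> omega
    rw [← hf] at e
    rw [e]
    simp [toFun, mulList, toList, idx_lt i, hlt]
  have hfc : f = toFun (clsList (f none) (f (pt 0)) (f (pt 1)) (f (pt 5))) := funext fun i => by
    rw [cls2_list]
    rcases cls2_orbits i with rfl | rfl | ⟨k, hk, e, ec⟩ | ⟨k, hk, e, ec⟩
    · simp [cls2, idx]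
    · simp [cls2, idx_pt (show 0 < 24 by norm_num)]
    · rw [ec, ← hinv k (by omega) i, e]; simp
    · rw [ec, ← hinv k (by omega) i, e]; simp
  obtain ⟨a, ha⟩ : ∃ a, f none = a := ⟨_, rfl⟩
  obtain ⟨b, hb⟩ : ∃ b, f (pt 0) = b := ⟨_, rfl⟩
  obtain ⟨c, hc⟩ : ∃ c, f (pt 1) = c := ⟨_, rfl⟩
  obtain ⟨d, hd'⟩ : ∃ d, f (pt 5) = d := ⟨_, rfl⟩
  rw [ha, hb, hc, hd'] at hfc
  have hsum : ∀ g : GolayPt → ℤ → ℤ, ∀ F : ℕ → ℤ, (∀ i, g i (f i) = F (cls2 i)) →
      ∑ i, g i (f i) = F 0 + F 1 + 11 * F 2 + 11 * F 3 := fun g F hF => by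
    have hmaps : ∀ i ∈ (Finset.univ : Finset GolayPt), cls2 i ∈ Finset.range 4 :=
      fun i _ => Finset.mem_range.2 (cls2_lt i)
    rw [Finset.sum_congr rfl fun i _ => hF i, ← Finset.sum_fiberwise_of_maps_to hmaps]
    simp only [Finset.sum_range_succ, Finset.sum_range_zero, zero_add]
    have hone : ∀ j < 4, ∑ i ∈ Finset.univ.filter (fun i => cls2 i = j), F (cls2 i) =
        (if j < 2 then 1 else 11 : ℕ) * F j := fun j hj => by
      rw [Finset.sum_congr rfl fun i hi => by rw [(Finset.mem_filter.1 hi).2], Finset.sum_const,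
        cls2_counts j hj, nsmul_eq_mul]
    rw [hone 0 (by norm_num), hone 1 (by norm_num), hone 2 (by norm_num), hone 3 (by norm_num)]
    simp
  have hsq : a * a + b * b + 11 * (c * c) + 11 * (d * d) = 64 := by
    rw [← hn, sqNorm, hsum (fun _ s => s ^ 2)
      (fun j => (if j = 0 then a else if j = 1 then b else if j = 2 then c else d) ^ 2)
      fun i => by rw [hfc, cls2_list]]
    simp [sq]
  have hdot : t * a + b + 11 * c + 11 * d = 8 * t := by
    rw [← hd, dotInt, hsum (fun i s => peakVec none t i * s)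
      (fun j => (if j = 0 then t else 1) * (if j = 0 then a else if j = 1 then b else if j = 2 then c else d))
      fun i => ?_]
    · simp
    rw [hfc, cls2_list]
    congr 1
    have h0 : cls2 i = 0 ↔ i = none := by
      constructor
      · intro e
        unfold cls2 at e
        split_ifs at e with h1
        exact idx_injective (h1.trans rfl)
      · rintro rfl; simp [cls2, idx]
    simp [peakVec, h0]
  have ba : -8 ≤ a ∧ a ≤ 8 := by constructor <;> nlinarith [sq_nonneg b, sq_nonneg c, sq_nonneg d]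
  have bb : -8 ≤ b ∧ b ≤ 8 := by constructor <;> nlinarith [sq_nonneg a, sq_nonneg c, sq_nonneg d]
  have bc : -2 ≤ c ∧ c ≤ 2 := by constructor <;> nlinarith [sq_nonneg a, sq_nonneg b, sq_nonneg d]
  have bd : -2 ≤ d ∧ d ≤ 2 := by constructor <;> nlinarith [sq_nonneg a, sq_nonneg b, sq_nonneg c]
  simp only [solsOK, List.all_eq_true, List.mem_range, Bool.or_eq_true, Bool.not_eq_true', beq_iff_eq] at hs
  have h := hs (a + 8).toNat (by omega) (b + 8).toNat (by omega) (c + 2).toNat (by omega) (d + 2).toNat (by omega)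
  rw [Int.toNat_of_nonneg (by omega), Int.toNat_of_nonneg (by omega), Int.toNat_of_nonneg (by omega),
    Int.toNat_of_nonneg (by omega), add_sub_cancel_right, add_sub_cancel_right, add_sub_cancel_right,
    add_sub_cancel_right] at h
  simp only [Bool.and_eq_false_iff, decide_eq_false_iff_not] at h
  rcases h with ((h | h) | h) | h
  · rcases h with h | h
    · exact absurd hsq h
    · exact absurd hdot h
  · have h2 := leechTest_complete v.2
    rw [← hf, hfc] at h2
    exact absurd (h ▸ h2 : false = true) Bool.false_ne_true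
  · exact Or.inl (Subtype.ext (by rw [← hf, hfc, h]; exact e8_eq none))
  · exact Or.inr (by rw [hfc, h])

/-- The point stabiliser in `M₂₄` inside the lattice automorphism group. -/
noncomputable def emb23 : ↥S23 →* ↥Co0 := permHom S23 inf_le_left

theorem emb23_injective : Function.Injective emb23 := permHom_injective _ _

/-- The stabiliser of the peak vector. -/
abbrev PG (t : ℤ) (hm : peakVec none t ∈ leechLattice) : Subgroup ↥Co0 :=
  MulAction.stabilizer ↥Co0 (⟨_, hm⟩ : ↥leechLattice)

variable {t : ℤ} {hm : peakVec none t ∈ leechLattice}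

theorem emb23_mem (ht : 1 < t ∨ t < -1) (σ : ↥S23) : emb23 σ ∈ PG t hm := by
  rw [MulAction.mem_stabilizer_iff]
  exact (mono_fix_peakVec none (v := ⟨_, hm⟩) ht rfl σ.1 σ.2.1 ∅ empty_mem_supports).2 ⟨σ.2.2, rfl⟩

theorem exists_emb23 (ht : 1 < t ∨ t < -1) {g : ↥Co0} (hg : g ∈ PG t hm)
    (he : g • e8 none = e8 none) : ∃ σ : ↥S23, emb23 σ = g := by
  obtain ⟨σ, hσ, c, hc, rfl⟩ := exists_mono_of_crossFix (crossFix_of_fix rfl he)
  obtain ⟨h1, rfl⟩ := (mono_fix_peakVec none (v := ⟨_, hm⟩) ht rfl σ hσ c hc).1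
    (MulAction.mem_stabilizer_iff.1 hg)
  exact ⟨⟨σ, hσ, h1⟩, rfl⟩

/-- The rotation as an element of the point stabiliser. -/
def x23 : ↥S23 := ⟨shiftPerm, shiftPerm_mem, rfl⟩

/-- The multiplication as an element of the point stabiliser. -/
noncomputable def y23 : ↥S23 := ⟨permOf mul2Code, permOf_mem_M24 mul2_aut.1, by
  show permOf mul2Code none = none
  rw [permOf_apply (permOK_of_isAut mul2_aut.1)]
  decide +kernel⟩

theorem emb23_x : emb23 x23 = xEl := rfl

theorem emb23_y : emb23 y23 = yEl := monoEl_congr (hσ := y23.2.1) (hc := empty_mem_supports) (by unfold y23; with_reducible rfl) rfl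

theorem xEl_mem (ht : 1 < t ∨ t < -1) : xEl ∈ PG t hm := emb23_x ▸ emb23_mem ht x23

theorem yEl_mem (ht : 1 < t ∨ t < -1) : yEl ∈ PG t hm := emb23_y ▸ emb23_mem ht y23

theorem orderOf_xEl : orderOf xEl = 23 := by
  rw [← emb23_x, orderOf_injective _ emb23_injective, ← Subgroup.orderOf_coe]
  exact shift_order

theorem orderOf_yEl : orderOf yEl = 11 := by
  haveI := Fact.mk (by norm_num : Nat.Prime 11)
  rw [← emb23_y, orderOf_injective _ emb23_injective, ← Subgroup.orderOf_coe]
  have hok := permOK_of_isAut mul2_aut.1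
  have hp : ∀ i : GolayPt, pt (mulSrc 11 (idx i)) = i := by decide +kernel
  refine orderOf_eq_prime ?_ fun h => ?_
  · show permOf mul2Code ^ 11 = 1
    refine Equiv.ext fun i => ?_
    obtain ⟨j, rfl⟩ := ((permOf mul2Code) ^ 11).symm.surjective i
    rw [Equiv.apply_symm_apply, mul2_pow_symm 11 (by norm_num) j, hp]
    rfl
  · have := congrFun (congrArg DFunLike.coe h) (pt 1)
    change permOf mul2Code (pt 1) = pt 1 at this
    rw [permOf_apply hok] at this
    revert this
    decide +kernel

theorem fixed_x (ht : 1 < t ∨ t < -1) {g : ↥Co0} (hg : g ∈ PG t hm)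
    (hfix : xEl • g • e8 none = g • e8 none) : g • e8 none = e8 none := by
  rcases fixed_by_el23 ((co0_norm g (e8 none)).trans (sqNorm_e8 none)) hfix with e | e
  · exact e
  exfalso
  have d1 := co0_dot g (⟨_, hm⟩ : ↥leechLattice) (e8 none)
  rw [MulAction.mem_stabilizer_iff.1 hg, e] at d1
  have hneg : dotInt (peakVec none t) ((-e8 none : ↥leechLattice) : GolayPt → ℤ) =
      -dotInt (peakVec none t) (e8 none : GolayPt → ℤ) := by
    simp only [dotInt, AddSubgroup.coe_neg, Pi.neg_apply, mul_neg, Finset.sum_neg_distrib]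
  rw [hneg, dotInt_e8] at d1
  have : peakVec none t none = t := rfl
  simp only [this] at d1
  omega

theorem zpowers_fix {g : ↥Co0} {x : ↥Co0} {v : ↥leechLattice} (hx : x • v = v)
    (hg : g ∈ Subgroup.zpowers x) : g • v = v :=
  MulAction.mem_stabilizer_iff.1
    ((Subgroup.zpowers_le.2 (MulAction.mem_stabilizer_iff.2 hx) : _ ≤ MulAction.stabilizer ↥Co0 v) hg)

theorem xEl_fix : xEl • e8 none = e8 none :=
  (monoEl_e8 shiftPerm shiftPerm_mem ∅ empty_mem_supports).2 ⟨rfl, Finset.notMem_empty _⟩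

theorem yEl_fix : yEl • e8 none = e8 none :=
  (monoEl_e8 _ (permOf_mem_M24 mul2_aut.1) ∅ empty_mem_supports).2 ⟨y23.2.2, Finset.notMem_empty _⟩

theorem centralizer_x (ht : 1 < t ∨ t < -1) {g : ↥Co0} (hg : g ∈ PG t hm) (hc : g * xEl = xEl * g) :
    g ∈ Subgroup.zpowers xEl := by
  have he : g • e8 none = e8 none := fixed_x ht hg (by
    rw [← mul_smul, ← hc, mul_smul, xEl_fix])
  obtain ⟨σ, rfl⟩ := exists_emb23 ht hg he
  rw [← emb23_x, ← map_mul, ← map_mul] at hc
  haveI := Fact.mk (by norm_num : Nat.Prime 23)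
  set C := Subgroup.centralizer ((Subgroup.zpowers x23 : Subgroup ↥S23) : Set ↥S23)
  have hc' : σ * x23 = x23 * σ := emb23_injective hc
  have hσ : σ ∈ C := Subgroup.mem_centralizer_iff.2 fun h hh => by
    obtain ⟨n, rfl⟩ := Subgroup.mem_zpowers_iff.1 hh
    exact ((Commute.zpow_right (show Commute σ x23 from hc') n).eq).symm
  have hox : orderOf x23 = 23 := (orderOf_injective _ emb23_injective x23).symm.trans orderOf_xEl
  have h23 : ({none}ᶜ : Set GolayPt).ncard = 23 := by
    rw [Set.ncard_compl, Set.ncard_singleton, Nat.card_eq_fintype_card, card_golayPt]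
  have hle : Nat.card C ≤ 23 := card_centralizer_le (by norm_num) _ (by rw [Nat.card_zpowers, hox]) _
    (Set.toFinite _) h23 (fun g hg => Subtype.ext (Equiv.ext fun x => by
      by_cases hx : x = none
      · subst hx; exact g.2.2
      · exact hg x hx))
    (fun g x hx e => hx (g.1.injective ((Set.mem_singleton_iff.1 e).trans g.2.2.symm)))
  have hzC : Subgroup.zpowers x23 ≤ C := fun h hh => Subgroup.mem_centralizer_iff.2 fun k hk => by
    obtain ⟨a, rfl⟩ := Subgroup.mem_zpowers_iff.1 hh
    obtain ⟨b, rfl⟩ := Subgroup.mem_zpowers_iff.1 hk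
    exact ((Commute.refl x23).zpow_zpow b a).eq
  have heq := Subgroup.eq_of_le_of_card_ge hzC (by rw [Nat.card_zpowers, hox]; exact hle)
  rw [← heq] at hσ
  obtain ⟨n, rfl⟩ := Subgroup.mem_zpowers_iff.1 hσ
  exact ⟨n, (map_zpow emb23 x23 n).symm⟩

theorem normalizer_x_card (ht : 1 < t ∨ t < -1) {g : ↥Co0} (hg : g ∈ PG t hm)
    (hN : g ∈ Subgroup.normalizer ((Subgroup.zpowers xEl : Subgroup ↥Co0) : Set ↥Co0)) :
    ∃ σ ∈ Subgroup.normalizer ((Subgroup.zpowers x23 : Subgroup ↥S23) : Set ↥S23), emb23 σ = g := by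
  have he : g • e8 none = e8 none := fixed_x ht hg (by
    have hmem : g⁻¹ * xEl * g ∈ Subgroup.zpowers xEl := by
      have h' := (Subgroup.mem_normalizer_iff.1 (Subgroup.inv_mem _ hN) xEl).1 (Subgroup.mem_zpowers _)
      rwa [inv_inv] at h'
    have h1 := zpowers_fix xEl_fix hmem
    rwa [mul_smul, mul_smul, inv_smul_eq_iff] at h1)
  obtain ⟨σ, rfl⟩ := exists_emb23 ht hg he
  refine ⟨σ, ?_, rfl⟩
  rw [Subgroup.mem_normalizer_iff] at hN ⊢
  intro h
  have key : ∀ k : ↥S23, k ∈ Subgroup.zpowers x23 ↔ emb23 k ∈ Subgroup.zpowers xEl := fun k => by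
    rw [← emb23_x, ← MonoidHom.map_zpowers]
    exact (Subgroup.mem_map_iff_mem emb23_injective).symm
  rw [key, key, map_mul, map_mul, map_inv]
  exact hN _

theorem normalizer_x23_card :
    Nat.card (Subgroup.normalizer ((Subgroup.zpowers x23 : Subgroup ↥S23) : Set ↥S23)) = 253 := by
  haveI := Fact.mk (by norm_num : Nat.Prime 23)
  have hcard : Nat.card ↥S23 = 23 * 443520 := M24_stab_card none
  have hox : orderOf x23 = 23 := (orderOf_injective _ emb23_injective x23).symm.trans orderOf_xEl
  let P : Sylow 23 ↥S23 := Sylow.ofCard (Subgroup.zpowers x23) (by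
    rw [Nat.card_zpowers, hox, hcard, Nat.factorization_mul (by norm_num) (by norm_num), Finsupp.add_apply,
      (by norm_num : Nat.Prime 23).factorization_self, Nat.factorization_eq_zero_of_not_dvd (by norm_num)]
    norm_num)
  have h23 : ({none}ᶜ : Set GolayPt).ncard = 23 := by
    rw [Set.ncard_compl, Set.ncard_singleton, Nat.card_eq_fintype_card, card_golayPt]
  exact (card_normalizer_of_centralizer (n := 253) (by norm_num) hcard (by norm_num) P
    (card_centralizer_le (by norm_num) _ (by rw [show (P : Subgroup ↥S23) = Subgroup.zpowers x23 from rfl,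
      Nat.card_zpowers, hox]) _ (Set.toFinite _) h23 (fun g hg => Subtype.ext (Equiv.ext fun x => by
      by_cases hx : x = none
      · subst hx; exact g.2.2
      · exact hg x hx))
      (fun g x hx e => hx (g.1.injective ((Set.mem_singleton_iff.1 e).trans g.2.2.symm))))
    (by decide +kernel)).2

theorem some_zero : (some 0 : GolayPt) = pt 0 := by decide +kernel

/-- The multiplication as an element of `M₂₂`. -/
noncomputable def y22 : Spor.M22 := ⟨permOf mul2Code, M22.mem_M22.2 ⟨permOf_mem_M24 mul2_aut.1, y23.2.2, by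
  rw [permOf_apply (permOK_of_isAut mul2_aut.1)]
  decide +kernel⟩⟩

theorem y_fixed_points : ∀ i : GolayPt, permFun mul2Code i = i → i = none ∨ i = some 0 := by decide +kernel

/-- An element of the point stabiliser normalising the eleven group lies in `M₂₂`. -/
theorem exists_M22 {σ : ↥S23}
    (hσ : σ ∈ Subgroup.normalizer ((Subgroup.zpowers y23 : Subgroup ↥S23) : Set ↥S23)) :
    ∃ m ∈ Subgroup.normalizer ((Subgroup.zpowers y22 : Subgroup Spor.M22) : Set Spor.M22),
      (m : Equiv.Perm GolayPt) = σ.1 := by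
  have hok := permOK_of_isAut mul2_aut.1
  have hz : σ⁻¹ * y23 * σ ∈ Subgroup.zpowers y23 := by
    have h' := (Subgroup.mem_normalizer_iff.1 (Subgroup.inv_mem _ hσ) y23).1 (Subgroup.mem_zpowers _)
    rwa [inv_inv] at h'
  obtain ⟨n, hn⟩ := Subgroup.mem_zpowers_iff.1 hz
  have h0 : permOf mul2Code (some 0) = some 0 := y22.2.2
  have e : y23 * σ = σ * y23 ^ n := by rw [hn]; group
  have e1 : permOf mul2Code (σ.1 (some 0)) = σ.1 (some 0) := by
    have := congrArg (fun u : ↥S23 => (u : Equiv.Perm GolayPt) (some 0)) e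
    simp only [Subgroup.coe_mul, SubgroupClass.coe_zpow, Equiv.Perm.mul_apply] at this
    refine this.trans (congrArg σ.1 ?_)
    exact Function.IsFixedPt.perm_zpow h0 n
  rw [permOf_apply hok] at e1
  have hs0 : σ.1 (some 0) = some 0 := by
    rcases y_fixed_points _ e1 with h | h
    · exact absurd (σ.1.injective (h.trans σ.2.2.symm)) (by simp)
    · exact h
  refine ⟨⟨σ.1, M22.mem_M22.2 ⟨σ.2.1, σ.2.2, hs0⟩⟩, ?_, rfl⟩
  let ι : Spor.M22 →* ↥S23 :=
    { toFun := fun m => ⟨m.1, (M22.mem_M22.1 m.2).1, (M22.mem_M22.1 m.2).2.1⟩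
      map_one' := rfl
      map_mul' := fun _ _ => rfl }
  have hι : Function.Injective ι := fun a b h => Subtype.ext (congrArg (fun u : ↥S23 => (u : Equiv.Perm GolayPt)) h)
  have key : ∀ k, k ∈ Subgroup.zpowers y22 ↔ ι k ∈ Subgroup.zpowers y23 := fun k => by
    rw [show y23 = ι y22 from rfl, ← MonoidHom.map_zpowers]
    exact (Subgroup.mem_map_iff_mem hι).symm
  rw [Subgroup.mem_normalizer_iff] at hσ ⊢
  intro h
  rw [key, key, map_mul, map_mul, map_inv]
  exact hσ _

theorem orderOf_y22 : orderOf y22 = 11 := by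
  rw [← Subgroup.orderOf_coe]
  show orderOf (permOf mul2Code) = 11
  rw [show permOf mul2Code = (y23 : ↥S23).1 from rfl, Subgroup.orderOf_coe,
    ← orderOf_injective _ emb23_injective y23, emb23_y, orderOf_yEl]

theorem normalizer_y22 :
    Nat.card (Subgroup.normalizer ((Subgroup.zpowers y22 : Subgroup Spor.M22) : Set Spor.M22)) = 55 :=
  HSOut.norm11 (by rw [Nat.card_zpowers, orderOf_y22])

theorem centralizer_y22 {m : Spor.M22}
    (hN : m ∈ Subgroup.normalizer ((Subgroup.zpowers y22 : Subgroup Spor.M22) : Set Spor.M22))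
    (hc : Commute m y22) : m ∈ Subgroup.zpowers y22 := by
  set N := Subgroup.normalizer ((Subgroup.zpowers y22 : Subgroup Spor.M22) : Set Spor.M22)
  have hd : orderOf m ∣ 55 := by
    rw [← normalizer_y22, ← Subgroup.orderOf_mk (H := N) m hN]
    exact orderOf_dvd_natCard _
  have h5 : ¬ 5 ∣ orderOf m := fun h5 => by
    have ho : orderOf (m ^ (orderOf m / 5)) = 5 := orderOf_pow_orderOf_div (orderOf_pos m).ne' h5
    exact M22.not_commute (p := 11) (q := 5) (by simp) (by norm_num) (by norm_num) (by norm_num) orderOf_y22 ho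
      (hc.symm.pow_right _)
  have h11 : m ^ 11 = 1 := by
    rw [← orderOf_dvd_iff_pow_eq_one]
    exact (Nat.Coprime.dvd_of_dvd_mul_left
      (((Nat.Prime.coprime_iff_not_dvd (by norm_num : Nat.Prime 5)).2 h5).symm) (by simpa using hd))
  haveI := Fact.mk (by norm_num : Nat.Prime 11)
  let P : Sylow 11 Spor.M22 := Sylow.ofCard (Subgroup.zpowers y22) (by
    rw [Nat.card_zpowers, orderOf_y22, M22.M22_card, show (443520 : ℕ) = 11 * 40320 by norm_num,
      Nat.factorization_mul (by norm_num) (by norm_num), Finsupp.add_apply,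
      (by norm_num : Nat.Prime 11).factorization_self, Nat.factorization_eq_zero_of_not_dvd (by norm_num)]
    norm_num)
  have hp : IsPGroup 11 (Subgroup.zpowers m) := by
    intro g
    refine ⟨1, Subtype.ext ?_⟩
    obtain ⟨n, hn⟩ := Subgroup.mem_zpowers_iff.1 g.2
    rw [pow_one, SubmonoidClass.coe_pow, ← hn, ← zpow_natCast, ← zpow_mul, mul_comm, zpow_mul, zpow_natCast,
      h11, one_zpow]
    rfl
  have := hp.inf_normalizer_sylow P
  have hle : Subgroup.zpowers m ≤ (P : Subgroup Spor.M22) := by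
    refine inf_eq_left.1 ?_
    rw [← this, inf_eq_left]
    exact Subgroup.zpowers_le.2 hN
  exact hle (Subgroup.mem_zpowers m)

end Cfsg.Agent.FGS4.ConwayOut
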