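import Cfsg.Agent.FGS4.ConwayOut.Abstract
import Cfsg.Agent.TwoGroups.OutMathieu.Generic
import Cfsg.Prelude.Def_Spor_Conway

/-!
# Passing to the stabilisers of the prelude
-/

set_option autoImplicit false

namespace Cfsg.Agent.FGS4.ConwayOut

open Cfsg Cfsg.Agent Cfsg.Agent.Golay
open scoped Pointwise

/-- The intersection with `Co0` is the stabiliser inside it. -/
def infStab (v : ↥leechLattice) :
    ↥(Co0 ⊓ MulAction.stabilizer (Equiv.Perm ↥leechLattice) v) ≃* ↥(MulAction.stabilizer ↥Co0 v) where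
  toFun g := ⟨⟨g.1, g.2.1⟩, g.2.2⟩
  invFun g := ⟨g.1.1, g.1.2, g.2⟩
  left_inv _ := rfl
  right_inv _ := rfl
  map_mul' _ _ := rfl

/-- The orders of the outer automorphism groups agree. -/
theorem card_out_stab {v w : ↥leechLattice} {n : ℤ} (hn : n = 32 ∨ n = 48 ∨ n = 64)
    (hv : sqNorm (v : GolayPt → ℤ) = n) (hw : sqNorm (w : GolayPt → ℤ) = n) :
    Nat.card (Cfsg.Out ↥(Co0 ⊓ MulAction.stabilizer (Equiv.Perm ↥leechLattice) v)) =
      Nat.card (Cfsg.Out ↥(MulAction.stabilizer ↥Co0 w)) := by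
  obtain ⟨g, hg⟩ := co0_transitive hn hv hw
  exact TwoGroups.OutMathieu.card_out_congr
    ((infStab v).trans ((stabConj1 g v).trans (MulEquiv.subgroupCongr (by rw [hg]))))

theorem dvd_triple {k a b c : ℕ} (h : k ∣ a * (b * c)) : ∃ i j l, i ∣ a ∧ j ∣ b ∧ l ∣ c ∧ k = i * (j * l) := by
  obtain ⟨i, r, hi, hr, rfl⟩ := Nat.dvd_mul.1 h
  obtain ⟨j, l, hj, hl, rfl⟩ := Nat.dvd_mul.1 hr
  exact ⟨i, j, l, hi, hj, hl, rfl⟩

end Cfsg.Agent.FGS4.ConwayOut
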